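import Cfsg.Agent.MinSimple.Geo
import Cfsg.Agent.Lib.GoldschmidtFusion
import Cfsg.Agent.Involutions.BaerSuzuki
import Cfsg.Agent.Omega.NOThree.LL.Block
import Cfsg.Agent.Mrg.Omega.NO3S.Dual.Basic
import Mathlib

section


/-!
# Blocks of a module (NO-3S TwoFar, text #16267, (b1))

`H` acts on the elementary abelian 2-group `M` (additive, the action need not be faithful), `JJ` is a set of subgroups
of `H`; `BJ M J = [M, J]`, `CC M JJ` = the common fixed points of all `J ∈ JJ`.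

* `Blk M JJ` : (b1), `JJ` is `H`-invariant;
* `Blk.mem_CC` : `b ∈ BJ J`, `[b, J] ≤ CC` give `b ∈ CC`; `Blk.inter` : `(BJ J + CC) ∩ (BJ J' + CC) = CC`;
* `Blk.fixed` : the fixed points of `J` in `BJ J`;
* `Blk.stab` : `J ∩ Stab(λ + CC)` fixes `λ` if a Sylow 2-subgroup of `H` fixes `λ`.
-/

set_option autoImplicit false

namespace Cfsg.Agent.Omega.NOThree.TF

open Subgroup Cfsg.Agent.MinSimple.Geo

universe u v

variable {H : Type u} [Group H] {M : Type v} [AddCommGroup M] [DistribMulAction H M]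

variable (M) in
/-- `[M, J]` -/
def BJ (J : Subgroup H) : AddSubgroup M := AddSubgroup.closure {m | ∃ g ∈ J, ∃ v : M, m = g • v - v}

variable (M) in
/-- the common fixed points of the subgroups in `JJ` -/
def CC (JJ : Set (Subgroup H)) : AddSubgroup M where
  carrier := {m | ∀ J ∈ JJ, ∀ g ∈ J, g • m = m}
  add_mem' := by
    intro a b ha hb J hJ g hg
    rw [smul_add, ha J hJ g hg, hb J hJ g hg]
  zero_mem' := fun J _ g _ => smul_zero g
  neg_mem' := by
    intro a ha J hJ g hg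
    rw [smul_neg, ha J hJ g hg]

theorem mem_CC {JJ : Set (Subgroup H)} {m : M} : m ∈ CC M JJ ↔ ∀ J ∈ JJ, ∀ g ∈ J, g • m = m := Iff.rfl

section basic

variable {J : Subgroup H} {g : H} {m v : M}

theorem sub_mem_BJ (hg : g ∈ J) (v : M) : g • v - v ∈ BJ M J := AddSubgroup.subset_closure ⟨g, hg, v, rfl⟩

theorem smul_mem_BJ (hg : g ∈ J) (hm : m ∈ BJ M J) : g • m ∈ BJ M J := by
  have := add_mem (sub_mem_BJ hg m) hm
  rwa [sub_add_cancel] at this

theorem smul_mem_BJ_iff (hg : g ∈ J) : g • m ∈ BJ M J ↔ m ∈ BJ M J := by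
  refine ⟨fun h => ?_, smul_mem_BJ hg⟩
  have := smul_mem_BJ (inv_mem hg) h
  rwa [inv_smul_smul] at this

theorem conj_smul_mem_BJ (g : H) (hm : m ∈ BJ M J) : g • m ∈ BJ M (cj g J) := by
  unfold BJ at hm
  induction hm using AddSubgroup.closure_induction with
  | mem x hx =>
    obtain ⟨j, hj, v, rfl⟩ := hx
    have := sub_mem_BJ (M := M) (conj_mem_cj (g := g) hj) (g • v)
    rw [smul_smul, inv_mul_cancel_right] at this
    rwa [smul_sub, smul_smul]
  | zero => rw [smul_zero]; exact zero_mem _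
  | add x y _ _ hx hy => rw [smul_add]; exact add_mem hx hy
  | neg x _ hx => rw [smul_neg]; exact neg_mem hx

theorem sub_mem_of_sub {D : AddSubgroup M} {a b c : M} (h1 : a - b ∈ D) (h2 : b - c ∈ D) : a - c ∈ D := by
  have := add_mem h1 h2
  rwa [sub_add_sub_cancel] at this

end basic

variable (M) in
/-- (b1) -/
structure Blk (JJ : Set (Subgroup H)) : Prop where
  conj : ∀ J ∈ JJ, ∀ g : H, cj g J ∈ JJ
  ker : ∀ J ∈ JJ, ∀ g : H, (∀ m : M, g • m = m) → g ∈ J
  comm : ∀ J ∈ JJ, ∀ J' ∈ JJ, J ≠ J' → ∀ m ∈ BJ M J, ∀ g ∈ J', g • m = m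
  span : (⨆ J ∈ JJ, BJ M J) ⊔ CC M JJ = ⊤
  irr : ∀ J ∈ JJ, ∀ D : AddSubgroup M, D ≤ BJ M J → (∀ g ∈ J, ∀ d ∈ D, g • d ∈ D) →
    D ≤ CC M JJ ∨ BJ M J ≤ D ⊔ CC M JJ
  nontriv : ∀ J ∈ JJ, ¬ BJ M J ≤ CC M JJ

namespace Blk

variable {JJ : Set (Subgroup H)} (h : Blk M JJ) {J J' : Subgroup H}
include h

theorem smul_CC (g : H) {m : M} (hm : m ∈ CC M JJ) : g • m ∈ CC M JJ := by
  intro J hJ j hj
  have h1 : g⁻¹ * j * g ∈ cj g⁻¹ J := by
    have := conj_mem_cj (g := g⁻¹) hj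
    rwa [inv_inv] at this
  have h2 := hm _ (h.conj J hJ g⁻¹) _ h1
  rw [mul_smul, mul_smul] at h2
  rw [← smul_left_cancel_iff g⁻¹, h2, inv_smul_smul]

theorem smul_CC_iff (g : H) {m : M} : g • m ∈ CC M JJ ↔ m ∈ CC M JJ := by
  refine ⟨fun hm => ?_, h.smul_CC g⟩
  have := h.smul_CC g⁻¹ hm
  rwa [inv_smul_smul] at this

theorem conj_mem_iff (g : H) : cj g J ∈ JJ ↔ J ∈ JJ := by
  refine ⟨fun hJ => ?_, fun hJ => h.conj J hJ g⟩
  have := h.conj _ hJ g⁻¹
  rwa [cj_inv_cj] at this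

omit h in
theorem fix_CC (hJ : J ∈ JJ) {g : H} (hg : g ∈ J) {m : M} (hm : m ∈ CC M JJ) : g • m = m := hm J hJ g hg

/-- induction over `M = Σ BJ J + CC` -/
theorem ind {D : AddSubgroup M} (h1 : ∀ J ∈ JJ, BJ M J ≤ D) (h2 : CC M JJ ≤ D) (m : M) : m ∈ D := by
  have h3 : (⊤ : AddSubgroup M) ≤ D := by
    rw [← h.span]
    exact sup_le (iSup₂_le h1) h2
  exact h3 (AddSubgroup.mem_top m)

/-- the vectors `m` with `[m, J] ≤ D` (`J` acts trivially on `D`) -/
def cm (J : Subgroup H) (D : AddSubgroup M) : AddSubgroup M where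
  carrier := {m | ∀ g ∈ J, g • m - m ∈ D}
  add_mem' := by
    intro a b ha hb g hg
    have := add_mem (ha g hg) (hb g hg)
    rwa [show g • (a + b) - (a + b) = g • a - a + (g • b - b) by rw [smul_add]; abel]
  zero_mem' := fun g _ => by simp [zero_mem]
  neg_mem' := by
    intro a ha g hg
    have := neg_mem (ha g hg)
    rwa [show g • -a - -a = -(g • a - a) by rw [smul_neg]; abel]

/-- no vector of `BJ J - CC` is fixed by `J` modulo `CC` -/
theorem mem_CC (hJ : J ∈ JJ) {b : M} (hb : b ∈ BJ M J) (hfix : ∀ g ∈ J, g • b - b ∈ CC M JJ) : b ∈ CC M JJ := by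
  have h1 := h.irr J hJ (BJ M J ⊓ cm J (CC M JJ)) inf_le_left ?_
  · rcases h1 with h1 | h1
    · exact h1 ⟨hb, hfix⟩
    · exfalso
      refine h.nontriv J hJ ?_
      have h2 : ∀ v : M, v ∈ cm J (CC M JJ) := by
        refine h.ind (fun J' hJ' => ?_) fun c hc g hg => ?_
        · by_cases hJJ : J' = J
          · subst hJJ
            intro b hb g hg
            obtain ⟨d, hd, c, hc, rfl⟩ := AddSubgroup.mem_sup.1 (h1 hb)
            have h3 := hd.2 g hg
            rwa [smul_add, fix_CC hJ hg hc, add_sub_add_right_eq_sub]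
          · intro b hb g hg
            rw [h.comm J' hJ' J hJ hJJ b hb g hg, sub_self]
            exact zero_mem _
        · rw [fix_CC hJ hg hc, sub_self]
          exact zero_mem _
      unfold BJ
      rw [AddSubgroup.closure_le]
      rintro _ ⟨g, hg, v, rfl⟩
      exact h2 v g hg
  · rintro g hg d ⟨hd1, hd2⟩
    refine ⟨smul_mem_BJ hg hd1, fun j hj => ?_⟩
    have e : j • g • d - g • d = ((j * g) • d - d) - (g • d - d) := by rw [mul_smul]; abel
    rw [e]
    exact sub_mem (hd2 _ (mul_mem hj hg)) (hd2 _ hg)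

/-- the fixed points of `J` in `BJ J` lie in `CC` -/
theorem fixed (hJ : J ∈ JJ) {b : M} (hb : b ∈ BJ M J) (hfix : ∀ g ∈ J, g • b = b) : b ∈ CC M JJ :=
  h.mem_CC hJ hb fun g hg => by rw [hfix g hg, sub_self]; exact zero_mem _

/-- `J'` fixes `BJ J + CC` -/
theorem fix_of_ne (hJ : J ∈ JJ) (hJ' : J' ∈ JJ) (hne : J ≠ J') {m : M} (hm : m ∈ BJ M J ⊔ CC M JJ) {g : H}
    (hg : g ∈ J') : g • m = m := by
  obtain ⟨b, hb, c, hc, rfl⟩ := AddSubgroup.mem_sup.1 hm
  rw [smul_add, h.comm J hJ J' hJ' hne b hb g hg, fix_CC hJ' hg hc]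

/-- `J` fixes the vector of `BJ J + CC` : it lies in `CC` -/
theorem mem_CC_of_fix (hJ : J ∈ JJ) {m : M} (hm : m ∈ BJ M J ⊔ CC M JJ) (hf : ∀ g ∈ J, g • m = m) :
    m ∈ CC M JJ := by
  obtain ⟨b, hb, c, hc, rfl⟩ := AddSubgroup.mem_sup.1 hm
  refine add_mem (h.fixed hJ hb fun g hg => ?_) hc
  have := hf g hg
  rw [smul_add, fix_CC hJ hg hc] at this
  exact add_right_cancel this

/-- the sum of the `BJ J` is direct modulo `CC` -/
theorem inter (hJ : J ∈ JJ) (hJ' : J' ∈ JJ) (hne : J ≠ J') {m : M} (hm : m ∈ BJ M J ⊔ CC M JJ)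
    (hm' : m ∈ BJ M J' ⊔ CC M JJ) : m ∈ CC M JJ :=
  h.mem_CC_of_fix hJ hm fun _ hg => h.fix_of_ne hJ' hJ hne.symm hm' hg

omit h in
theorem smul_mem_sup (hJ : J ∈ JJ) {g : H} (hg : g ∈ J) {m : M} (hm : m ∈ BJ M J ⊔ CC M JJ) :
    g • m ∈ BJ M J ⊔ CC M JJ := by
  obtain ⟨b, hb, c, hc, rfl⟩ := AddSubgroup.mem_sup.1 hm
  rw [smul_add, fix_CC hJ hg hc]
  exact AddSubgroup.mem_sup.2 ⟨_, smul_mem_BJ hg hb, c, hc, rfl⟩

/-- `g • (BJ J + CC) = BJ J^g + CC` -/
theorem conj_smul_mem_sup (g : H) {m : M} (hm : m ∈ BJ M J ⊔ CC M JJ) : g • m ∈ BJ M (cj g J) ⊔ CC M JJ := by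
  obtain ⟨b, hb, c, hc, rfl⟩ := AddSubgroup.mem_sup.1 hm
  rw [smul_add]
  exact AddSubgroup.mem_sup.2 ⟨_, conj_smul_mem_BJ g hb, _, h.smul_CC g hc, rfl⟩

/-- `g` with `m`, `g • m ∈ BJ J + CC`, `m ∉ CC`, normalises `J` -/
theorem cj_eq (hJ : J ∈ JJ) {g : H} {m : M} (hm : m ∈ BJ M J ⊔ CC M JJ) (hgm : g • m ∈ BJ M J ⊔ CC M JJ)
    (hC : m ∉ CC M JJ) : cj g J = J := by
  by_contra hne
  exact hC ((h.smul_CC_iff g).1 (h.inter (h.conj J hJ g) hJ hne (h.conj_smul_mem_sup g hm) hgm))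

/-- elements of different blocks commute on `M` -/
theorem smul_comm_of_ne (hJ : J ∈ JJ) (hJ' : J' ∈ JJ) (hne : J ≠ J') {g g' : H} (hg : g ∈ J) (hg' : g' ∈ J')
    (m : M) : g • g' • m = g' • g • m := by
  have key : m ∈ ({ carrier := {m | g • g' • m = g' • g • m}
                    add_mem' := by
                      intro a b ha hb
                      simp only [Set.mem_ofPred_eq, smul_add] at ha hb ⊢
                      rw [ha, hb]
                    zero_mem' := by simp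
                    neg_mem' := by
                      intro a ha
                      simp only [Set.mem_ofPred_eq, smul_neg] at ha ⊢
                      rw [ha] } : AddSubgroup M) := by
    refine h.ind (fun J₁ hJ₁ b hb => ?_) (fun c hc => ?_) m
    · change g • g' • b = g' • g • b
      by_cases h1 : J₁ = J
      · subst h1
        rw [h.comm _ hJ₁ _ hJ' hne b hb g' hg', h.comm _ hJ₁ _ hJ' hne _ (smul_mem_BJ hg hb) g' hg']
      · by_cases h2 : J₁ = J'
        · subst h2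
          rw [h.comm _ hJ₁ _ hJ h1 b hb g hg, h.comm _ hJ₁ _ hJ h1 _ (smul_mem_BJ hg' hb) g hg]
        · rw [h.comm _ hJ₁ _ hJ' h2 b hb g' hg', h.comm _ hJ₁ _ hJ h1 b hb g hg,
            h.comm _ hJ₁ _ hJ' h2 b hb g' hg']
    · change g • g' • c = g' • g • c
      rw [fix_CC hJ' hg' hc, fix_CC hJ hg hc, fix_CC hJ' hg' hc]
  exact key

/-- different blocks normalise each other -/
theorem conj_mem (hJ : J ∈ JJ) (hJ' : J' ∈ JJ) {g g' : H} (hg : g ∈ J) (hg' : g' ∈ J') :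
    g' * g * g'⁻¹ ∈ J := by
  by_cases hne : J = J'
  · subst hne
    exact mul_mem (mul_mem hg' hg) (inv_mem hg')
  · have h1 : g' * g * g'⁻¹ * g⁻¹ ∈ J := by
      refine h.ker J hJ _ fun m => ?_
      rw [mul_smul, mul_smul, mul_smul, h.smul_comm_of_ne hJ hJ' hne hg (inv_mem hg'), smul_inv_smul,
        smul_inv_smul]
    have := mul_mem h1 hg
    rwa [inv_mul_cancel_right] at this

/-- the group generated by the blocks is normal in `H` -/
theorem sSup_normal : (sSup JJ).Normal := by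
  refine ⟨fun n hn g => ?_⟩
  have h1 : sSup JJ ≤ cj g⁻¹ (sSup JJ) := by
    refine sSup_le fun J hJ => ?_
    have h2 : cj g J ≤ sSup JJ := le_sSup (h.conj J hJ g)
    rwa [cj_le_iff] at h2
  have h2 := h1 hn
  rwa [mem_cj, inv_inv] at h2

theorem normal_subgroupOf (hJ : J ∈ JJ) : (J.subgroupOf (sSup JJ)).Normal := by
  rw [normal_subgroupOf_iff_le_normalizer (le_sSup hJ)]
  refine sSup_le fun J' hJ' g' hg' => ?_
  rw [mem_normalizer_iff]
  refine fun g => ⟨fun hg => h.conj_mem hJ hJ' hg hg', fun hg => ?_⟩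
  have := h.conj_mem hJ hJ' hg (inv_mem hg')
  have e : g'⁻¹ * (g' * g * g'⁻¹) * g'⁻¹⁻¹ = g := by group
  rwa [e] at this

/-- `T ∩ J` is Sylow in `J` -/
theorem not_dvd_relIndex [Finite H] {T : Subgroup H} (hT : ¬ 2 ∣ T.index) (hJ : J ∈ JJ) : ¬ 2 ∣ T.relIndex J := by
  have := h.sSup_normal
  have := h.normal_subgroupOf hJ
  have h1 := Cfsg.Agent.Lib.GoldschmidtFusion.relIndex_dvd_index_of_normal_right T (sSup JJ)
  have h2 := Cfsg.Agent.Lib.GoldschmidtFusion.relIndex_dvd_index_of_normal_right (T.subgroupOf (sSup JJ))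
    (J.subgroupOf (sSup JJ))
  rw [relIndex_subgroupOf (le_sSup hJ)] at h2
  exact fun h3 => hT ((h3.trans h2).trans h1)

/-- `J ∩ Stab(λ + CC)` fixes `λ`, if a Sylow 2-subgroup of `H` fixes `λ`. -/
theorem stab [Finite H] (two : ∀ m : M, m + m = 0) {T : Subgroup H} (hT : ¬ 2 ∣ T.index) {lam : M}
    (hlam : ∀ t ∈ T, t • lam = lam) (hJ : J ∈ JJ) {g : H} (hg : g ∈ J) (hgl : g • lam - lam ∈ CC M JJ) :
    g • lam = lam := by
  have : Fact (Nat.Prime 2) := ⟨Nat.prime_two⟩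
  let S : Subgroup H :=
    { carrier := {g | g ∈ J ∧ g • lam - lam ∈ CC M JJ}
      one_mem' := ⟨one_mem _, by simp [zero_mem]⟩
      mul_mem' := by
        rintro a b ⟨ha, ha'⟩ ⟨hb, hb'⟩
        refine ⟨mul_mem ha hb, ?_⟩
        have e : (a * b) • lam - lam = a • (b • lam - lam) + (a • lam - lam) := by
          rw [mul_smul, smul_sub]; abel
        rw [e]
        exact add_mem (h.smul_CC a hb') ha'
      inv_mem' := by
        rintro a ⟨ha, ha'⟩
        refine ⟨inv_mem ha, ?_⟩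
        have e : a⁻¹ • lam - lam = -(a⁻¹ • (a • lam - lam)) := by
          rw [smul_sub, inv_smul_smul]; abel
        rw [e]
        exact neg_mem (h.smul_CC _ ha') }
  let φ : S →* Multiplicative M := MonoidHom.mk' (fun g => Multiplicative.ofAdd ((g : H) • lam - lam)) (by
    rintro ⟨a, ha, ha'⟩ ⟨b, hb, hb'⟩
    change Multiplicative.ofAdd ((a * b) • lam - lam) =
      Multiplicative.ofAdd (a • lam - lam) * Multiplicative.ofAdd (b • lam - lam)
    rw [← ofAdd_add]
    congr 1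
    have e : (a * b) • lam - lam = a • (b • lam - lam) + (a • lam - lam) := by
      rw [mul_smul, smul_sub]; abel
    rw [e, fix_CC hJ ha hb', add_comm])
  have h1 : (T ⊓ J).subgroupOf S ≤ φ.ker := by
    rintro ⟨a, ha⟩ ha'
    rw [mem_subgroupOf] at ha'
    rw [MonoidHom.mem_ker]
    change Multiplicative.ofAdd (a • lam - lam) = 1
    rw [hlam a ha'.1, sub_self, ofAdd_zero]
  have h2 : ¬ 2 ∣ ((T ⊓ J).subgroupOf S).index := by
    have hle : T ⊓ J ≤ S := fun t ht => ⟨ht.2, by rw [hlam t ht.1, sub_self]; exact zero_mem _⟩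
    have h3 := relIndex_mul_relIndex (T ⊓ J) S J hle fun s hs => hs.1
    rw [inf_relIndex_right] at h3
    intro h4
    exact h.not_dvd_relIndex hT hJ (h3 ▸ (Dvd.dvd.mul_right h4 _))
  have h3 : ¬ 2 ∣ φ.ker.index := fun h4 => h2 (h4.trans (index_dvd_of_le h1))
  have h4 : IsPGroup 2 φ.range := by
    rintro ⟨_, s, rfl⟩
    refine ⟨1, Subtype.ext ?_⟩
    change (φ s) ^ (2 ^ 1) = 1
    rw [pow_one, pow_two]
    exact two ((s : H) • lam - lam)
  have : Finite φ.range := Finite.of_surjective _ φ.rangeRestrict_surjective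
  obtain ⟨k, hk⟩ := (IsPGroup.iff_card (p := 2)).1 h4
  rw [index_ker, hk] at h3
  have hk0 : k = 0 := by
    by_contra hk0
    exact h3 (dvd_pow_self 2 hk0)
  rw [hk0, pow_zero, Subgroup.card_eq_one] at hk
  have h5 : φ ⟨g, hg, hgl⟩ ∈ φ.range := ⟨_, rfl⟩
  rw [hk, mem_bot] at h5
  have h6 : g • lam - lam = 0 := congrArg Multiplicative.toAdd h5
  exact sub_eq_zero.1 h6

end Blk

end Cfsg.Agent.Omega.NOThree.TF

end

section


/-!
# Abstract tools for THEOREM LL (#18157): `O₂(H) = 1`, elements inverted by an involution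

`H` acts on the elementary abelian 2-group `M` (additive, the action need not be faithful).

* `RedM H M` : `O₂(H/C_H(M)) = 1`; `redM_of` : it holds if a Sylow 2-subgroup fixes `λ` and `M = ⟨λ^H⟩`;
* `Inv M f h` : `h` induces an element `≠ 1` of odd order on `M`, inverted by `f`;
* `exists_inv` (Baer-Suzuki), `Inv.moves` : `h` moves `λ`, `f` moves `λ^h`; `Inv.fix` : `C(f) ∩ C(f^h) ≤ C(h)`.
-/

set_option autoImplicit false

namespace Cfsg.Agent.Omega.NOThree.LL

open Subgroup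

universe u v

variable {H : Type u} [Group H] {M : Type v} [AddCommGroup M] [DistribMulAction H M]

variable (H M) in
/-- `O₂(H/C_H(M)) = 1` -/
def RedM : Prop := ∀ N : Subgroup H, N.Normal → (∀ n ∈ N, ∃ k : ℕ, ∀ m : M, (n ^ 2 ^ k) • m = m) →
  ∀ n ∈ N, ∀ m : M, n • m = m

/-- the kernel of the action on `M` -/
def kerM (H : Type u) [Group H] (M : Type v) [AddCommGroup M] [DistribMulAction H M] : Subgroup H where
  carrier := {g | ∀ m : M, g • m = m}
  one_mem' := fun m => one_smul _ m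
  mul_mem' := by
    intro a b ha hb m
    rw [mul_smul, hb m, ha m]
  inv_mem' := by
    intro a ha m
    rw [inv_smul_eq_iff, ha m]

theorem mem_kerM {g : H} : g ∈ kerM H M ↔ ∀ m : M, g • m = m := Iff.rfl

instance : (kerM H M).Normal := ⟨fun n hn g m => by rw [mul_smul, mul_smul, hn, smul_inv_smul]⟩

/-- `O₂(H/C_H(M)) = 1` if a Sylow 2-subgroup of `H` fixes `λ` and `M = ⟨λ^H⟩`. -/
theorem redM_of [Finite H] {T : Subgroup H} (hT : ¬ 2 ∣ T.index) {lam : M} (hlam : ∀ t ∈ T, t • lam = lam)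
    (hspan : ∀ m : M, m ∈ AddSubgroup.closure {v | ∃ g : H, v = g • lam}) : RedM H M := by
  intro N hN h2
  have hfact : Fact (Nat.Prime 2) := ⟨Nat.prime_two⟩
  -- `N` fixes `λ`
  have h3 : ∀ n ∈ N, n • lam = lam := by
    set S : Subgroup H := MulAction.stabilizer H lam with hS
    have h4 : ¬ 2 ∣ S.relIndex N := by
      intro hd
      have h5 : T.relIndex N ∣ T.index := Cfsg.Agent.Lib.GoldschmidtFusion.relIndex_dvd_index_of_normal_right T N
      exact hT ((hd.trans (relIndex_dvd_of_le_left N (show T ≤ S from fun t ht => hlam t ht))).trans h5)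
    have h5 : IsPGroup 2 (N ⧸ (kerM H M).subgroupOf N) := by
      intro x
      obtain ⟨n, rfl⟩ := QuotientGroup.mk_surjective x
      obtain ⟨k, hk⟩ := h2 n n.2
      refine ⟨k, ?_⟩
      rw [← QuotientGroup.mk_pow, QuotientGroup.eq_one_iff]
      exact mem_subgroupOf.2 hk
    obtain ⟨m, hm⟩ := IsPGroup.iff_card.1 h5
    have h6 : S.relIndex N ∣ 2 ^ m := by
      have h7 : (kerM H M).relIndex N = 2 ^ m := hm
      rw [← h7]
      exact relIndex_dvd_of_le_left N fun g hg => hg lam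
    obtain ⟨k, -, hk⟩ := (Nat.dvd_prime_pow Nat.prime_two).1 h6
    have h7 : S.relIndex N = 1 := by
      rcases Nat.eq_zero_or_pos k with e | e
      · rw [hk, e, pow_zero]
      · exact absurd (hk ▸ dvd_pow_self 2 (by omega)) h4
    exact fun n hn => relIndex_eq_one.1 h7 hn
  intro n hn m
  have h4 := hspan m
  induction h4 using AddSubgroup.closure_induction with
  | mem x hx =>
    obtain ⟨g, rfl⟩ := hx
    have h5 := h3 _ (hN.conj_mem n hn g⁻¹)
    rw [inv_inv, mul_smul, mul_smul, inv_smul_eq_iff] at h5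
    exact h5
  | zero => rw [smul_zero]
  | add x y _ _ hx hy => rw [smul_add, hx, hy]
  | neg x _ hx => rw [smul_neg, hx]

variable (M) in
/-- `h` induces an element `≠ 1` of odd order on `M`, inverted by `f`. -/
structure Inv (f h : H) : Prop where
  ne : ∃ m : M, h • m ≠ m
  odd : ∃ k : ℕ, Odd k ∧ ∀ m : M, (h ^ k) • m = m
  inv : ∀ m : M, (f * h * f⁻¹) • m = h⁻¹ • m

/-- **Baer-Suzuki**: an involution on `M` inverts an element of odd order. -/
theorem exists_inv [Finite H] (hr : RedM H M) {f : H} (hf : ∀ m : M, f • f • m = m) (hf' : ∃ m : M, f • m ≠ m) :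
    ∃ h : H, Inv M f h := by
  set K := kerM H M with hK
  set π := QuotientGroup.mk' K with hπ
  have hπ1 : ∀ y : H, π y = 1 ↔ ∀ m : M, y • m = m := fun y => QuotientGroup.eq_one_iff (N := K) y
  have haa : π f * π f = 1 := by
    rw [← map_mul, hπ1]
    intro m
    rw [mul_smul, hf]
  obtain ⟨g, hg1, hgo, hgi⟩ := Cfsg.Agent.Involutions.BaerSuzuki.exists_odd_inverted (π f) haa (by
    intro h1
    obtain ⟨m, hm⟩ := hf'
    apply hm
    refine hr ((normalClosure {π f}).comap π) inferInstance ?_ f (subset_normalClosure rfl) m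
    intro y hy
    obtain ⟨k, hk⟩ := h1 ⟨π y, hy⟩
    refine ⟨k, ?_⟩
    rw [← hπ1, map_pow]
    exact congrArg Subtype.val hk)
  obtain ⟨h, rfl⟩ := QuotientGroup.mk'_surjective K g
  refine ⟨h, ?_, ⟨orderOf (π h), hgo, ?_⟩, fun m => ?_⟩
  · by_contra hcon
    push Not at hcon
    exact hg1 ((hπ1 h).2 hcon)
  · rw [← hπ1, map_pow, pow_orderOf_eq_one]
  · have h1 : π (h * (f * h * f⁻¹)) = 1 := by
      rw [map_mul, map_mul, map_mul, map_inv]
      change π h * (π f * π h * (π f)⁻¹) = 1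
      rw [hgi, mul_inv_cancel]
    have h2 := (hπ1 _).1 h1 m
    rw [mul_smul] at h2
    rw [eq_inv_smul_iff, h2]

namespace Inv

variable {f h : H}

/-- `h⁻¹ f h = h⁻² f`-type identities on `M` -/
theorem conj_smul (i : Inv M f h) (m : M) : f • h • m = h⁻¹ • f • m := by
  have := i.inv (f • m)
  rwa [mul_smul, mul_smul, inv_smul_smul] at this

theorem conj_smul' (i : Inv M f h) (m : M) : f • h⁻¹ • m = h • f • m := by
  have := i.conj_smul (h⁻¹ • m)
  rw [smul_inv_smul] at this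
  rw [this, smul_inv_smul]

/-- fixed by `h²` implies fixed by `h` -/
theorem fix_of_sq (i : Inv M f h) {m : M} (hm : h • h • m = m) : h • m = m := by
  obtain ⟨k, ⟨j, rfl⟩, hk⟩ := i.odd
  have h1 : ∀ j : ℕ, (h ^ (2 * j)) • m = m := by
    intro j
    induction j with
    | zero => simp
    | succ j ih =>
      rw [Nat.mul_succ, pow_add, mul_smul, pow_two, mul_smul, hm, ih]
  have h2 := hk m
  rw [pow_succ', mul_smul, h1] at h2
  exact h2

/-- `C(f) ∩ C(h f h⁻¹) ≤ C(h)` -/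
theorem fix (i : Inv M f h) {m : M} (h1 : f • m = m) (h2 : h • f • h⁻¹ • m = m) : h • m = m := by
  apply i.fix_of_sq
  rw [i.conj_smul', h1] at h2
  exact h2

/-- if `f` fixes `λ` and `h • λ` then `h` fixes `λ` -/
theorem fix' (i : Inv M f h) {m : M} (h1 : f • m = m) (h2 : f • h • m = h • m) : h • m = m := by
  rw [i.conj_smul, h1] at h2
  exact i.fix_of_sq (by rw [← h2, smul_inv_smul])

end Inv

end Cfsg.Agent.Omega.NOThree.LL

end

section


/-!
# TwoFar, THEOREM LL (#18157), section 4, for an action which is not faithful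

`H` acts on the elementary abelian 2-group `M` with `O₂(H/C_H(M)) = 1` (`RedM H M`).

* `Tr d t` : `t` induces a transvection `≠ 1` with centre `d`;
* `BD H lam U c` : the situation of (4.3), (4.4) : `c ∈ U = U_λ` is not conjugate to `λ`, a transvection with centre `c`
  fixes `U`;
* `BD.comm_mem` : (a) `[M, g] ≤ ⟨c, λ⟩` for `g ∈ B_λ`;
* `BD.exists_block` : (b) the block of any transvection.
-/

set_option autoImplicit false
set_option linter.unusedSectionVars false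

namespace Cfsg.Agent.Omega.NOThree.LL

open Subgroup Cfsg Cfsg.Agent

variable {H : Type*} [Group H] {M : Type*} [AddCommGroup M] [DistribMulAction H M]

/-- `t` induces a transvection `≠ 1` with centre `d` -/
structure Tr (d : M) (t : H) : Prop where
  tr : ∀ m : M, t • m = m ∨ t • m = m + d
  ne : ∃ m : M, t • m ≠ m

/-- the situation of (4.3), (4.4) -/
structure BD (H : Type*) [Group H] {M : Type*} [AddCommGroup M] [DistribMulAction H M] (lam : M)
    (U : AddSubgroup M) (c : M) : Prop where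
  two : ∀ m : M, m + m = 0
  red : RedM H M
  span : ∀ m : M, m ∈ AddSubgroup.closure {v | ∃ g : H, v = g • lam}
  lamU : lam ∈ U
  inv : ∀ h : H, h • lam = lam → ∀ u ∈ U, h • u ∈ U
  F2 : ∀ u ∈ U, u ≠ 0 → u ≠ lam → ∃ k : H, k • lam = lam ∧ k • u = u + lam
  cU : c ∈ U
  cl : ∀ g : H, g • lam ≠ c
  tr : ∃ t : H, Tr c t ∧ ∀ u ∈ U, t • u = u

section

variable (H M) in
/-- the image of `H` in `Sym M` -/
abbrev Im : Subgroup (Equiv.Perm M) := (MulAction.toPermHom H M).range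

/-- `H → Im H M` -/
abbrev toIm : H →* Im H M := (MulAction.toPermHom H M).rangeRestrict

theorem toIm_smul (h : H) (m : M) : (toIm h : Im H M) • m = h • m := rfl

theorem toIm_surj (x : Im H M) : ∃ h : H, (toIm h : Im H M) = x :=
  (MulAction.toPermHom H M).rangeRestrict_surjective x

instance : DistribMulAction (Im H M) M where
  smul_zero x := by
    obtain ⟨h, rfl⟩ := toIm_surj x
    exact smul_zero h
  smul_add x a b := by
    obtain ⟨h, rfl⟩ := toIm_surj x
    exact smul_add h a b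

instance : FaithfulSMul (Im H M) M := ⟨fun h => Subtype.ext (Equiv.ext h)⟩

/-- `O₂(H/C_H(M)) = 1` for the image -/
theorem pCore_im (hr : RedM H M) : pCore 2 (Im H M) = ⊥ := by
  rw [eq_bot_iff]
  intro x hx
  obtain ⟨h, rfl⟩ := toIm_surj x
  rw [mem_bot]
  have h1 := hr ((pCore 2 (Im H M)).comap toIm) inferInstance (fun n hn => by
    obtain ⟨k, hk⟩ := Lib.Cores.pCore_isPGroup 2 ⟨toIm n, hn⟩
    refine ⟨k, fun m => ?_⟩
    have h2 : (toIm (n ^ 2 ^ k) : Im H M) = 1 := by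
      rw [map_pow]
      exact congrArg Subtype.val hk
    rw [← toIm_smul, h2, one_smul]) h hx
  refine Subtype.ext (Equiv.ext fun m => ?_)
  exact h1 m

/-- the functional of a transvection -/
theorem Tr.exists_fun [Module (ZMod 2) M] {d : M} {t : H} (h : Tr d t) (hd : d ≠ 0) :
    ∃ φ : M →+ ZMod 2, φ ≠ 0 ∧ Block.IsT (toIm t : Im H M) d φ := by
  classical
  have hs : ∀ m : M, m + m = 0 := Block.add_self
  have key : ∀ m : M, (t • m = m) ∨ (t • m = m + d ∧ t • m ≠ m) := by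
    intro m
    rcases h.tr m with e | e
    · exact Or.inl e
    · exact Or.inr ⟨e, by rw [e]; intro e'; exact hd (add_eq_left.1 e')⟩
  let φ : M →+ ZMod 2 :=
    { toFun := fun m => if t • m = m then 0 else 1
      map_zero' := by rw [if_pos (smul_zero t)]
      map_add' := by
        intro a b
        rcases key a with ha | ⟨ha, ha'⟩ <;> rcases key b with hb | ⟨hb, hb'⟩
        · rw [if_pos ha, if_pos hb, if_pos (by rw [smul_add, ha, hb]), add_zero]
        · rw [if_pos ha, if_neg hb', if_neg (by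
            rw [smul_add, ha]
            intro e
            exact hb' (add_left_cancel e)), zero_add]
        · rw [if_neg ha', if_pos hb, if_neg (by
            rw [smul_add, hb]
            intro e
            exact ha' (add_right_cancel e)), add_zero]
        · rw [if_neg ha', if_neg hb', if_pos (by
            rw [smul_add, ha, hb]
            calc a + d + (b + d) = a + b + (d + d) := by abel
              _ = a + b := by rw [hs, add_zero])]
          decide }
  refine ⟨φ, fun h0 => ?_, fun m => ?_⟩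
  · obtain ⟨m, hm⟩ := h.ne
    have h1 : φ m = 1 := if_neg hm
    rw [h0] at h1
    exact zero_ne_one h1
  · rw [toIm_smul]
    rcases key m with e | ⟨e, e'⟩
    · rw [show φ m = 0 from if_pos e, zero_smul, add_zero, e]
    · rw [show φ m = 1 from if_neg e', one_smul, e]

end

namespace BD

variable {lam c : M} {U : AddSubgroup M} [Finite H] [Finite M] (b : BD H lam U c)
include b

theorem c0 : c ≠ 0 := by
  rintro rfl
  obtain ⟨t, ht, -⟩ := b.tr
  obtain ⟨m, hm⟩ := ht.ne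
  rcases ht.tr m with e | e
  · exact hm e
  · exact hm (by rw [e, add_zero])

/-- the data of `Block` -/
theorem exists_blk [Module (ZMod 2) M] : ∃ φ : M →+ ZMod 2, Block.Blk (Im H M) lam U c φ := by
  obtain ⟨t, ht, htU⟩ := b.tr
  obtain ⟨φ, hφ, hφt⟩ := ht.exists_fun b.c0
  refine ⟨φ, ?_, b.lamU, ?_, ?_, b.cU, b.c0, ?_, ⟨_, hφt⟩, hφ, ?_⟩
  · rw [eq_top_iff]
    intro m _
    refine AddSubgroup.closure_mono ?_ (b.span m)
    rintro _ ⟨g, rfl⟩
    exact ⟨toIm g, rfl⟩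
  · intro k hk u hu
    obtain ⟨k, rfl⟩ := toIm_surj k
    exact b.inv k hk u hu
  · intro u hu h0 hl
    obtain ⟨k, h1, h2⟩ := b.F2 u hu h0 hl
    exact ⟨toIm k, h1, h2⟩
  · intro g
    obtain ⟨g, rfl⟩ := toIm_surj g
    exact b.cl g
  · intro u hu
    rcases Block.zc (φ u) with e | e
    · exact e
    · have h1 := hφt u
      rw [toIm_smul, htU u hu, e, one_smul, left_eq_add] at h1
      exact absurd h1 b.c0

/-- **(a)** -/
theorem comm_mem {g : H} (hg : ∀ u ∈ U, g • u = u) (hg' : ∀ m : M, g • m + m ∈ U) (m : M) :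
    g • m + m = 0 ∨ g • m + m = c ∨ g • m + m = c + lam ∨ g • m + m = lam := by
  let _ : Module (ZMod 2) M := AddCommGroup.zmodModule fun m => by rw [two_nsmul, b.two]
  obtain ⟨φ, B⟩ := b.exists_blk
  exact B.comm_mem (pCore_im b.red) (g := toIm g) hg hg' m

/-- **(b)**: the block of a transvection: the centre `r` is conjugate to `c`; `B + C_M(T) = M` for the group `T` of the
transvections with centre `r`, the stabiliser of `r` normalises `B`, and `|B| |U| ≤ |M|` -/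
theorem exists_block {r : M} {t : H} (ht : Tr r t) :
    (∃ g : H, g • c = r) ∧ ∃ B : AddSubgroup M, r ∈ B ∧ (∃ m ∈ B, t • m ≠ m) ∧
      (∀ h : H, h • r = r → ∀ m ∈ B, h • m ∈ B) ∧ Nat.card B * Nat.card U ≤ Nat.card M ∧
      ∀ m : M, ∃ m₁ ∈ B, ∃ m₂ : M, m = m₁ + m₂ ∧ ∀ s : H, (∀ x : M, s • x = x ∨ s • x = x + r) → s • m₂ = m₂ := by
  let _ : Module (ZMod 2) M := AddCommGroup.zmodModule fun m => by rw [two_nsmul, b.two]
  have hr : r ≠ 0 := by
    rintro rfl
    obtain ⟨m, hm⟩ := ht.ne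
    rcases ht.tr m with e | e
    · exact hm e
    · exact hm (by rw [e, add_zero])
  obtain ⟨φ, B⟩ := b.exists_blk
  obtain ⟨ψ, hψ, hψt⟩ := ht.exists_fun hr
  obtain ⟨⟨g, hg⟩, B, h1, h2, h3, h4, h5⟩ := B.exists_block_sup (pCore_im b.red) hr hψt hψ
  obtain ⟨g, rfl⟩ := toIm_surj g
  refine ⟨⟨g, hg⟩, B, h1, h2, fun h hh => h3 (toIm h) hh, h4, fun m => ?_⟩
  obtain ⟨m₁, k1, m₂, k2, k3⟩ := h5 m
  refine ⟨m₁, k1, m₂, k2, fun s hs => ?_⟩
  by_contra hne
  obtain ⟨χ, -, hχ⟩ := Tr.exists_fun (H := H) (t := s) ⟨hs, m₂, hne⟩ hr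
  exact hne (k3 _ χ hχ)

end BD

end Cfsg.Agent.Omega.NOThree.LL

end

section


/-!
# TwoMid, the end (bb #18802, #18799 (8)): the module part

`BD H lam U c` (two blocks); `t_c`, `t_d` transvections with the centres `c`, `d = c + λ`.

* `BD.opp` : an opposite line vector `μ = s λ`: `t_c` moves `μ`, `t_c^s` moves `μ + c`, and
  `⟨c, λ⟩ ∩ ⟨s c, s λ⟩ = 0`;
* `exists_nb` : neighbours of a transvection with a centre conjugate to `λ`.
-/

set_option autoImplicit false
set_option linter.unusedSectionVars false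

namespace Cfsg.Agent.Omega.NOThree.LL

open Subgroup Cfsg Cfsg.Agent

namespace Block

variable {H : Type*} [Group H] {M : Type*} [AddCommGroup M] [Module (ZMod 2) M] [DistribMulAction H M]
  [Finite H] [Finite M] [FaithfulSMul H M] {lam c : M} {U : AddSubgroup M} {φ₀ : M →+ ZMod 2}

theorem Blk.opp (b : Blk H lam U c φ₀) (hO : pCore 2 H = ⊥) {tc td : H} {φc φd : M →+ ZMod 2}
    (hc : IsT tc c φc) (hc0 : φc ≠ 0) (hd : IsT td (c + lam) φd) (hd0 : φd ≠ 0) :
    ∃ s : H, tc • (s • lam) = s • lam + c ∧ td • (s • lam) = s • lam + (c + lam) ∧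
      (s * tc * s⁻¹) • (s • lam + lam) = s • lam + lam + s • c ∧
      (s * tc * s⁻¹) • (s • lam + c) = s • lam + c + s • c ∧
      ∀ v : M, (v = 0 ∨ v = c ∨ v = c + lam ∨ v = lam) →
        (v = 0 ∨ v = s • c ∨ v = s • c + s • lam ∨ v = s • lam) → v = 0 := by
  have S := b.sys
  have hs : ∀ m : M, m + m = 0 := add_self
  obtain ⟨e₁, he₁, k1⟩ := S.exists_ne hc0
  obtain ⟨e₂, he₂, k2⟩ := S.exists_ne hd0
  have J1 : J H (Del H c) c e₁ := ⟨b.c_mem, he₁, φc, ⟨tc, hc⟩, k1⟩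
  have J2 : J H (Del H c) (c + lam) e₂ := ⟨b.c'_mem, he₂, φd, ⟨td, hd⟩, k2⟩
  obtain ⟨-, -, ψ₁, ⟨s₁, hs₁⟩, l1⟩ := S.J_symm J1
  obtain ⟨-, -, ψ₂, ⟨s₂, hs₂⟩, l2⟩ := S.J_symm J2
  have R1 : Rt H (Del H c) c e₁ := Relation.ReflTransGen.single J1
  have R2 : Rt H (Del H c) (c + lam) e₂ := Relation.ReflTransGen.single J2
  have n1 : ¬ Rt H (Del H c) c e₂ := fun h => b.not_rt hO (h.trans (S.rtg_symm R2))
  have n2 : ¬ Rt H (Del H c) (c + lam) e₁ := fun h => b.not_rt hO (R1.trans (S.rtg_symm h))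
  have Z1 := b.Z1 hO
  have Z2 := b.Z2 hO
  have Z3 : Z H (Del H c) c e₂ := S.Z_of_not b.c_mem he₂ n1
  have Z4 : Z H (Del H c) (c + lam) e₁ := S.Z_of_not b.c'_mem he₁ n2
  have a1 : φc c = 0 := hc.self b.c0
  have a2 : φc (c + lam) = 0 := Z1 c Relation.ReflTransGen.refl φc ⟨tc, hc⟩
  have a3 : φc lam = 0 := by rwa [map_add, a1, zero_add] at a2
  have b1 : φd (c + lam) = 0 := hd.self (S.ne_zero b.c'_mem)
  have b2 : φd c = 0 := Z2 _ Relation.ReflTransGen.refl φd ⟨td, hd⟩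
  have b3 : φd lam = 0 := by rwa [map_add, b2, zero_add] at b1
  have c1 : φc e₂ = 0 := Z3 c Relation.ReflTransGen.refl φc ⟨tc, hc⟩
  have c2 : φd e₁ = 0 := Z4 _ Relation.ReflTransGen.refl φd ⟨td, hd⟩
  have d1 : ψ₁ (c + lam) = 0 := Z1 e₁ R1 ψ₁ ⟨s₁, hs₁⟩
  have d2 : ψ₁ e₂ = 0 := Z3 e₁ R1 ψ₁ ⟨s₁, hs₁⟩
  have d3 : ψ₁ e₁ = 0 := hs₁.self (S.ne_zero he₁)
  have d4 : ψ₁ lam = 1 := by
    rw [map_add, l1] at d1
    rcases zc (ψ₁ lam) with e | e
    · rw [e] at d1; exact absurd d1 (by decide)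
    · exact e
  have f1 : ψ₂ c = 0 := Z2 e₂ R2 ψ₂ ⟨s₂, hs₂⟩
  have f2 : ψ₂ e₁ = 0 := Z4 e₂ R2 ψ₂ ⟨s₂, hs₂⟩
  have f3 : ψ₂ e₂ = 0 := hs₂.self (S.ne_zero he₂)
  have f4 : ψ₂ lam = 1 := by rwa [map_add, f1, zero_add] at l2
  have g1 : (s₁ * s₂) • c = c + e₁ := by
    rw [mul_smul, hs₂ c, f1, zero_smul, add_zero, hs₁ c, l1, one_smul]
  have g2 : (s₁ * s₂) • lam = lam + e₁ + e₂ := by
    rw [mul_smul, hs₂ lam, f4, one_smul, hs₁, map_add, d4, d2, add_zero, one_smul]
    abel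
  have g3 : (s₁ * s₂)⁻¹ • lam = lam + e₁ + e₂ := by
    rw [inv_smul_eq_iff, mul_smul, hs₂, map_add, map_add, f4, f2, f3, add_zero, add_zero, one_smul, add_assoc,
      add_assoc, hs, add_zero, hs₁, map_add, d4, d3, add_zero, one_smul, add_assoc, hs, add_zero]
  have g4 : (s₁ * s₂)⁻¹ • c = c + e₁ := by
    rw [inv_smul_eq_iff, mul_smul, hs₂, map_add, f1, f2, add_zero, zero_smul, add_zero, hs₁, map_add, l1, d3, add_zero,
      one_smul, add_assoc, hs, add_zero]
  refine ⟨s₁ * s₂, ?_, ?_, ?_, ?_, ?_⟩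
  · rw [g2, hc, map_add, map_add, a3, k1, c1, zero_add, add_zero, one_smul]
  · rw [g2, hd, map_add, map_add, b3, c2, k2, zero_add, zero_add, one_smul]
  · have h1 : (s₁ * s₂) • lam + lam = (s₁ * s₂) • (lam + (s₁ * s₂)⁻¹ • lam) := by
      rw [smul_add, smul_inv_smul]
    rw [mul_smul, mul_smul, h1, inv_smul_smul, g3, hc, ← smul_add]
    congr 2
    rw [map_add, map_add, map_add, a3, k1, c1, zero_add, zero_add, add_zero, one_smul]
  · have h1 : (s₁ * s₂) • lam + c = (s₁ * s₂) • (lam + (s₁ * s₂)⁻¹ • c) := by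
      rw [smul_add, smul_inv_smul]
    rw [mul_smul, mul_smul, h1, inv_smul_smul, g4, hc, ← smul_add]
    congr 2
    rw [map_add, map_add, a3, a1, k1, zero_add, zero_add, one_smul]
  · rw [g1, g2]
    have z1 : ∀ v : M, (v = 0 ∨ v = c ∨ v = c + lam ∨ v = lam) → φc v = 0 ∧ φd v = 0 := by
      rintro v (rfl | rfl | rfl | rfl)
      · exact ⟨map_zero _, map_zero _⟩
      · exact ⟨a1, b2⟩
      · exact ⟨a2, b1⟩
      · exact ⟨a3, b3⟩
    rintro v hv (rfl | rfl | rfl | rfl)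
    · rfl
    · have := (z1 _ hv).1
      rw [map_add, a1, k1] at this
      exact absurd this (by decide)
    · have := (z1 _ hv).2
      rw [map_add, map_add, map_add, map_add, b2, c2, b3, k2] at this
      exact absurd this (by decide)
    · have := (z1 _ hv).1
      rw [map_add, map_add, a3, k1, c1] at this
      exact absurd this (by decide)

end Block

variable {H : Type*} [Group H] {M : Type*} [AddCommGroup M] [DistribMulAction H M]

/-- **the opposite line vector** -/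
theorem BD.opp {lam c : M} {U : AddSubgroup M} [Finite H] [Finite M] (b : BD H lam U c) {tc : H}
    (hc : Tr c tc) :
    ∃ s : H, tc • (s • lam) = s • lam + c ∧ (s * tc * s⁻¹) • (s • lam + c) = s • lam + c + s • c ∧
      ∀ v : M, (v = 0 ∨ v = c ∨ v = c + lam ∨ v = lam) →
        (v = 0 ∨ v = s • c ∨ v = s • c + s • lam ∨ v = s • lam) → v = 0 := by
  let _ : Module (ZMod 2) M := AddCommGroup.zmodModule fun m => by rw [two_nsmul, b.two]
  obtain ⟨φ, B⟩ := b.exists_blk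
  obtain ⟨φc, hc0, hc'⟩ := hc.exists_fun b.c0
  have hcl : c ≠ lam := fun e => b.cl 1 (by rw [one_smul, e])
  obtain ⟨k, hk1, hk2⟩ := b.F2 c b.cU b.c0 hcl
  have hd : Tr (c + lam) (k * tc * k⁻¹) := by
    rw [← hk2]
    refine ⟨fun m => ?_, ?_⟩
    · rw [mul_smul, mul_smul]
      rcases hc.tr (k⁻¹ • m) with e | e
      · left; rw [e, smul_inv_smul]
      · right; rw [e, smul_add, smul_inv_smul]
    · obtain ⟨m, hm⟩ := hc.ne
      refine ⟨k • m, fun e => hm ?_⟩
      rw [mul_smul, mul_smul, inv_smul_smul] at e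
      exact smul_left_cancel k e
  obtain ⟨φd, hd0, hd'⟩ := hd.exists_fun (B.sys.ne_zero B.c'_mem)
  obtain ⟨s, h1, -, -, h3, h4⟩ := B.opp (pCore_im b.red) hc' hc0 hd' hd0
  obtain ⟨s, rfl⟩ := toIm_surj s
  rw [← map_inv, ← map_mul, ← map_mul] at h3
  exact ⟨s, h1, h3, h4⟩

/-- a transvection with a centre conjugate to `λ` has a neighbour -/
theorem exists_nb {lam c : M} [Finite H] [Finite M] (h2 : ∀ m : M, m + m = 0)
    (span : ∀ m : M, m ∈ AddSubgroup.closure {v | ∃ g : H, v = g • lam}) (h0 : c ≠ 0) (hc : ∃ g : H, g • lam = c)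
    {t : H} (ht : Tr c t) :
    ∃ (e : M) (t' : H), (∀ m : M, t' • m = m ∨ t' • m = m + e) ∧ t • e = e + c ∧ t' • c = c + e := by
  let _ : Module (ZMod 2) M := AddCommGroup.zmodModule fun m => by rw [two_nsmul, h2]
  obtain ⟨φ, hφ, hφt⟩ := ht.exists_fun h0
  obtain ⟨g, rfl⟩ := hc
  have S : Block.Sys (Im H M) {v | ∃ g : H, v = g • lam} :=
    { conj := by
        rintro k _ ⟨g, rfl⟩
        obtain ⟨k, rfl⟩ := toIm_surj k
        exact ⟨k * g, by rw [mul_smul]; rfl⟩
      trans := by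
        rintro _ ⟨g, rfl⟩ _ ⟨g', rfl⟩
        refine ⟨toIm (g' * g⁻¹), ?_⟩
        rw [toIm_smul, mul_smul, inv_smul_smul]
      zero := by
        rintro ⟨k, hk⟩
        apply h0
        have : lam = 0 := by rw [← inv_smul_smul k lam, ← hk, smul_zero]
        rw [this, smul_zero]
      span := by
        rw [eq_top_iff]
        intro m _
        exact span m
      ex := ⟨g • lam, ⟨g, rfl⟩, φ, ⟨_, hφt⟩, hφ⟩ }
  obtain ⟨e, he, h1⟩ := S.exists_ne hφ
  have J1 : Block.J (Im H M) {v | ∃ g : H, v = g • lam} (g • lam) e := ⟨⟨g, rfl⟩, he, φ, ⟨_, hφt⟩, h1⟩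
  obtain ⟨-, -, ψ, ⟨t', ht'⟩, h3⟩ := S.J_symm J1
  obtain ⟨t', rfl⟩ := toIm_surj t'
  refine ⟨e, t', fun m => ?_, ?_, ?_⟩
  · have := ht' m
    rw [toIm_smul] at this
    rcases Block.zc (ψ m) with e' | e'
    · left; rw [this, e', zero_smul, add_zero]
    · right; rw [this, e', one_smul]
  · have := hφt e
    rwa [toIm_smul, h1, one_smul] at this
  · have := ht' (g • lam)
    rwa [toIm_smul, h3, one_smul] at this

end Cfsg.Agent.Omega.NOThree.LL

end

section


/-!
# The module `M_p = W_p/p` of `C_G(p)` (NO-3S TwoFar, text #16267)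

`Md V p π` : `π : W_p → M` is a surjective homomorphism with kernel `⟨p⟩`, equivariant under `C_G(p)`
(`M` additive, acted on by `centralizer {p}`, not faithfully: the kernel is `kq V p`).

* `Md.eq_iff`, `Md.two`, `Md.mem_kq_iff`;
* `Md.fix_lift` : `c ∈ C(p)` fixing `π x` (`x ∼ p`): some element of `K_p c` fixes `x`;
* `Md.exists_md` : `M_p` exists.
-/

set_option autoImplicit false
set_option linter.unusedSectionVars false

namespace Cfsg.Agent.Omega.NOThree.TF

open Subgroup Cfsg Cfsg.Agent.ZN Cfsg.Agent.MinSimple.Geo Cfsg.Agent.Omega.CaseL Cfsg.Agent.Omega.NO3S.TwoOne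
open Cfsg.Agent.Omega.NO3S.Pt
open Cfsg.Agent.Omega.NO3S.Dual (nn mem_nn DW)
open Cfsg.Agent.ZN.Block (conj_mem_of_normalizer conj_mem_of_normalizer' le_normalizer_of_forall
  mem_normalizer_of)

universe u v

variable {G : Type u} [Group G] {M : Type v} [AddCommGroup M]

/-- the module `M_p = W_p/p` of `C_G(p)` -/
structure Md (V : Subgroup G) (p : G) [DistribMulAction (centralizer ({p} : Set G)) M] (π : G → M) : Prop where
  map_mul : ∀ a ∈ ws V p, ∀ b ∈ ws V p, π (a * b) = π a + π b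
  surj : ∀ m : M, ∃ a ∈ ws V p, π a = m
  ker : ∀ a ∈ ws V p, π a = 0 ↔ a = 1 ∨ a = p
  smul : ∀ g : centralizer ({p} : Set G), ∀ a ∈ ws V p, π ((g : G) * a * (g : G)⁻¹) = g • π a

/-- `C(p)` normalises `W_p` -/
theorem conj_mem_ws_of_mem {V : Subgroup G} {p g a : G} (hg : g ∈ centralizer ({p} : Set G)) (ha : a ∈ ws V p) :
    g * a * g⁻¹ ∈ ws V p :=
  conj_mem_of_normalizer (centralizer_le_normalizer_ws V p) hg ha

namespace Md

variable {T V : Subgroup G} {z p : G} [DistribMulAction (centralizer ({p} : Set G)) M] {π : G → M}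

theorem map_one (md : Md V p π) : π 1 = 0 := (md.ker 1 (one_mem _)).2 (Or.inl rfl)

theorem map_p (h : Fr T V z) (hp : Col V p p) (md : Md V p π) : π p = 0 :=
  (md.ker p (h.mem_ws_self hp)).2 (Or.inr rfl)

theorem two (h : Fr T V z) (hp : Col V p p) (md : Md V p π) (m : M) : m + m = 0 := by
  obtain ⟨a, ha, rfl⟩ := md.surj m
  rw [← md.map_mul a ha a ha, h.ws_sq hp a ha, md.map_one]

theorem neg_eq (h : Fr T V z) (hp : Col V p p) (md : Md V p π) (m : M) : -m = m :=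
  neg_eq_of_add_eq_zero_left (md.two h hp m)

theorem sub_eq (h : Fr T V z) (hp : Col V p p) (md : Md V p π) (m m' : M) : m - m' = m + m' := by
  rw [sub_eq_add_neg, md.neg_eq h hp]

theorem eq_iff (h : Fr T V z) (hp : Col V p p) (md : Md V p π) {a b : G} (ha : a ∈ ws V p) (hb : b ∈ ws V p) :
    π a = π b ↔ a = b ∨ a = p * b := by
  have h1 : π (a * b) = π a + π b := md.map_mul a ha b hb
  have h2 : π a = π b ↔ π (a * b) = 0 := by
    rw [h1, ← md.sub_eq h hp, sub_eq_zero]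
  rw [h2, md.ker _ (mul_mem ha hb)]
  have hbb := h.ws_sq hp b hb
  refine or_congr ⟨fun e => ?_, fun e => ?_⟩ ⟨fun e => ?_, fun e => ?_⟩
  · calc a = a * b * b := by rw [mul_assoc, hbb, mul_one]
      _ = b := by rw [e, one_mul]
  · rw [e, hbb]
  · calc a = a * b * b := by rw [mul_assoc, hbb, mul_one]
      _ = p * b := by rw [e]
  · rw [e, mul_assoc, hbb, mul_one]

/-- the kernel of the action is `K_p` -/
theorem mem_kq_iff (h : Fr T V z) (hp : Col V p p) (md : Md V p π) (g : centralizer ({p} : Set G)) :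
    (g : G) ∈ kq V p ↔ ∀ m : M, g • m = m := by
  have hpp := h.pt_sq hp
  constructor
  · intro hg m
    obtain ⟨a, ha, rfl⟩ := md.surj m
    rw [← md.smul g a ha, md.eq_iff h hp (conj_mem_ws_of_mem g.2 ha) ha]
    exact h.kq_cases' hp hg ha
  · intro hg
    have key : ∀ g : centralizer ({p} : Set G), (∀ m : M, g • m = m) → ∀ w ∈ ws V p,
        (g : G) * w * (g : G)⁻¹ * w⁻¹ ∈ zpowers p := by
      intro g hg w hw
      have h1 := hg (π w)
      rw [← md.smul g w hw, md.eq_iff h hp (conj_mem_ws_of_mem g.2 hw) hw] at h1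
      rw [mem_zpowers_iff_of_mul_self hpp]
      rcases h1 with e | e
      · left; rw [e]; group
      · right; rw [e]; group
    refine ⟨g.2, key g hg, fun w hw => ?_⟩
    have h1 := key g⁻¹ (fun m => by
      conv_lhs => rw [← hg m]
      exact inv_smul_smul g m) w hw
    simpa using h1

theorem kq_smul (h : Fr T V z) (hp : Col V p p) (md : Md V p π) {k : G} (hk : k ∈ kq V p) (m : M) :
    (⟨k, kq_le_centralizer V p hk⟩ : centralizer ({p} : Set G)) • m = m :=
  (md.mem_kq_iff h hp ⟨k, kq_le_centralizer V p hk⟩).1 hk m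

/-- an element of `C(p)` fixing the image of a point `x ∼ p` fixes `x` after a correction in `K_p` -/
theorem fix_lift (h : Fr T V z) (md : Md V p π) {x : G} (hx : Col V p x) (hne : x ≠ p)
    {c : centralizer ({p} : Set G)} (hc : c • π x = π x) :
    ∃ k : centralizer ({p} : Set G), (k : G) ∈ kq V p ∧ (k * c : G) * x * (k * c : G)⁻¹ = x := by
  have hxp : x ∈ ws V p := h.mem_ws_of_col hx
  rw [← md.smul c x hxp, md.eq_iff h hx.left (conj_mem_ws_of_mem c.2 hxp) hxp] at hc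
  rcases hc with e | e
  · exact ⟨1, one_mem _, by simpa using e⟩
  · obtain ⟨g, hp, hx', hp1, hx1⟩ := id hx
    obtain ⟨k, hk, -, hkm⟩ := h.mover_cj hp hp1
    have hpx : p * x ≠ 1 := by
      intro e'
      apply hne
      have := h.pt_sq hx.left
      calc x = p * p * x := by rw [this, one_mul]
        _ = p := by rw [mul_assoc, e', mul_one]
    have h2 := hkm (p * x) (mul_mem hp hx') hpx (fun e' => hx1 (by simpa using e'))
    refine ⟨⟨k, kq_le_centralizer V p hk⟩, hk, ?_⟩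
    calc (k * c : G) * x * (k * c : G)⁻¹ = k * (c * x * (c : G)⁻¹) * k⁻¹ := by group
      _ = p * (p * x) := by rw [e, h2]
      _ = x := by rw [← mul_assoc, h.pt_sq hx.left, one_mul]

/-- two points `∼ p` with the same image are `x`, `p x` -/
theorem pt_eq (h : Fr T V z) (md : Md V p π) {x y : G} (hx : Col V p x) (hy : Col V p y) (e : π x = π y) :
    x = y ∨ x = p * y :=
  (md.eq_iff h hx.left (h.mem_ws_of_col hx) (h.mem_ws_of_col hy)).1 e

theorem pt_ne_zero (h : Fr T V z) (md : Md V p π) {x : G} (hx : Col V p x) (hne : x ≠ p) : π x ≠ 0 := by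
  intro e
  rcases (md.ker x (h.mem_ws_of_col hx)).1 e with e | e
  · exact hx.right.ne_one e
  · exact hne e

end Md

/-- the Sylow 2-subgroup of a flag `(p, l)`, `x` on `l` -/
theorem exists_T [Finite G] {T V : Subgroup G} {z p x : G} (h : Fr T V z) (hx : Col V p x) (hne : x ≠ p) :
    ∃ T' : Subgroup G, T' ≤ centralizer ({p} : Set G) ∧ IsPGroup 2 T' ∧
      ¬ 2 ∣ T'.relIndex (centralizer ({p} : Set G)) ∧ (∀ t ∈ T', t * x * t⁻¹ = x ∨ t * x * t⁻¹ = p * x) ∧
      ws V p ≤ T' ∧ ∀ w ∈ ws V p, (∀ t ∈ T', t * w = w * t) → w = 1 ∨ w = p := by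
  obtain ⟨g, hp, hx', hp1, hx1⟩ := id hx
  obtain ⟨k, hk, -, hf⟩ := h.flag hp hp1
  have hle : ws V p ≤ cj k T := by
    have := hf.ln.ws_le_T
    rwa [ws_cj] at this
  refine ⟨cj k T, hf.ln.T_le, hf.ln.two, hf.ln.T_syl, fun t ht => ?_, hle, fun w hw hc => ?_⟩
  · have h1 : t * x * t⁻¹ ∈ cj g V := conj_mem_of_normalizer hf.ln.T_norm ht hx'
    have htp : t * p = p * t := mem_centralizer_singleton_iff.1 (hf.ln.T_le ht)
    rcases hf.ln.four hp hx' hp1 hx1 (Ne.symm hne) h1 with e | e | e | e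
    · exact absurd (conj_eq_one_iff.1 e) hx1
    · exfalso
      apply hne
      calc x = t⁻¹ * (t * x * t⁻¹) * t := by group
        _ = t⁻¹ * (p * t) := by rw [e]; group
        _ = p := by rw [← htp]; group
    · exact Or.inl e
    · exact Or.inr e
  · exact hf.ln.soc w (hle hw) (h.ws_sq hx.left w hw) hc

/-- `K_p` induces all sign patterns on two points independent modulo a subgroup containing `N_p` -/
theorem exists_sign [Finite G] {T V : Subgroup G} {z p : G} (h : Fr T V z) (hp : Col V p p) {x y : G}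
    (hx : x ∈ ws V p) (hy : y ∈ ws V p) (h1 : x ∉ zpowers y ⊔ nn (ws V p) (kq V p)) :
    ∃ k ∈ kq V p, k * y * k⁻¹ = y ∧ k * x * k⁻¹ = p * x := by
  obtain ⟨k, hk, hku, hkx⟩ := (h.dw hp).exists_mover (U := zpowers y) (by rwa [zpowers_le]) hx h1
  exact ⟨k, hk, NO3S.Dual.conj_eq_of_comm (hku y (mem_zpowers y)), hkx⟩

theorem not_mem_zpowers_sup {V : Subgroup G} {T : Subgroup G} {z p : G}
    [DistribMulAction (centralizer ({p} : Set G)) M] {π : G → M} (h : Fr T V z) (hp : Col V p p)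
    (md : Md V p π) {C : AddSubgroup M} (hN : ∀ w ∈ nn (ws V p) (kq V p), π w ∈ C) {x y : G}
    (hy : y ∈ ws V p) (h1 : π x ∉ C) (h2 : π x + π y ∉ C) :
    x ∉ zpowers y ⊔ nn (ws V p) (kq V p) := by
  intro hx
  obtain ⟨a, ha, b, hb, rfl⟩ := NO3S.Dual.mem_sup_of_comm (h.ws_comm hp) (A := zpowers y) (by rwa [zpowers_le])
    (inf_le_left : nn (ws V p) (kq V p) ≤ ws V p) hx
  have hbw : b ∈ ws V p := (mem_nn.1 hb).1
  rcases (mem_zpowers_iff_of_mul_self (h.ws_sq hp y hy)).1 ha with rfl | rfl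
  · rw [one_mul] at h1
    exact h1 (hN b hb)
  · rw [md.map_mul _ hy _ hbw] at h2
    apply h2
    have e : π a + π b + π a = π b := by
      rw [add_comm, ← add_assoc, md.two h hp, zero_add]
    rw [e]
    exact hN b hb

/-- **the kill**: `x`, `x'` points `∼ p`, `s = x x' ν`, `ν ∈ N_p`, `W_x ∩ W_x' ≤ W_s`; some `k ∈ C(p)` fixes the
images of `x`, `x'` and moves `ν` to `p ν`. -/
theorem inf_le_of_kill [Finite G] {T V : Subgroup G} {z p : G} [DistribMulAction (centralizer ({p} : Set G)) M]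
    {π : G → M} (h : Fr T V z) (md : Md V p π) {C : AddSubgroup M}
    (hN : ∀ w ∈ nn (ws V p) (kq V p), π w ∈ C) {x x' nu k : G} (hx : Col V p x) (hx' : Col V p x')
    (hnu : nu ∈ nn (ws V p) (kq V p)) (h1 : π x ∉ C) (h2 : π x' ∉ C) (h3 : π x + π x' ∉ C)
    (hk : k ∈ centralizer ({p} : Set G)) (hkx : π (k * x * k⁻¹) = π x) (hkx' : π (k * x' * k⁻¹) = π x')
    (hknu : k * nu * k⁻¹ = p * nu) (hs : Col V p (x * x' * nu)) (hsp : x * x' * nu ≠ p)
    (hD : ws V x ⊓ ws V x' ≤ ws V (x * x' * nu)) : ws V x ⊓ ws V x' ≤ ws V p := by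
  have hp := hx.left
  have hxw := h.mem_ws_of_col hx
  have hxw' := h.mem_ws_of_col hx'
  have hpp := h.pt_sq hp
  -- correct `k`
  obtain ⟨k', hk', e1, e2⟩ : ∃ k' ∈ kq V p, k' * (k * x * k⁻¹) * k'⁻¹ = x ∧ k' * (k * x' * k⁻¹) * k'⁻¹ = x' := by
    have hmove : ∃ k' ∈ kq V p, k' * x' * k'⁻¹ = x' ∧ k' * x * k'⁻¹ = p * x :=
      exists_sign h hp hxw hxw' (not_mem_zpowers_sup h hp md hN hxw' h1 h3)
    have hmove' : ∃ k' ∈ kq V p, k' * x * k'⁻¹ = x ∧ k' * x' * k'⁻¹ = p * x' :=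
      exists_sign h hp hxw' hxw (not_mem_zpowers_sup h hp md hN hxw h2 (by rwa [add_comm]))
    have hkp : ∀ k' ∈ kq V p, ∀ y : G, k' * (p * y) * k'⁻¹ = p * (k' * y * k'⁻¹) := by
      intro k' hk' y
      have := mem_centralizer_singleton_iff.1 (kq_le_centralizer V p hk')
      calc k' * (p * y) * k'⁻¹ = (k' * p) * y * k'⁻¹ := by group
        _ = p * (k' * y * k'⁻¹) := by rw [this]; group
    have hppy : ∀ y, p * (p * y) = y := fun y => by rw [← mul_assoc, hpp, one_mul]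
    rcases (md.eq_iff h hp (conj_mem_ws_of_mem hk hxw) hxw).1 hkx with e | e <;>
      rcases (md.eq_iff h hp (conj_mem_ws_of_mem hk hxw') hxw').1 hkx' with e' | e'
    · exact ⟨1, one_mem _, by simpa using e, by simpa using e'⟩
    · obtain ⟨k', hk', f1, f2⟩ := hmove'
      exact ⟨k', hk', by rw [e, f1], by rw [e', hkp k' hk', f2, hppy]⟩
    · obtain ⟨k', hk', f1, f2⟩ := hmove
      exact ⟨k', hk', by rw [e, hkp k' hk', f2, hppy], by rw [e', f1]⟩
    · obtain ⟨k', hk', f1, f2⟩ := hmove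
      obtain ⟨k'', hk'', g1, g2⟩ := hmove'
      refine ⟨k'' * k', mul_mem hk'' hk', ?_, ?_⟩
      · rw [e]
        calc k'' * k' * (p * x) * (k'' * k')⁻¹ = k'' * (k' * (p * x) * k'⁻¹) * k''⁻¹ := by group
          _ = x := by rw [hkp k' hk', f2, hppy, g1]
      · rw [e']
        calc k'' * k' * (p * x') * (k'' * k')⁻¹ = k'' * (k' * (p * x') * k'⁻¹) * k''⁻¹ := by group
          _ = x' := by rw [hkp k' hk', f1, hkp k'' hk'', g2, hppy]
  have hkp' : k' ∈ centralizer ({p} : Set G) := kq_le_centralizer V p hk'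
  set g := k' * k with hg
  have e1' : g * x * g⁻¹ = x := by
    calc k' * k * x * (k' * k)⁻¹ = k' * (k * x * k⁻¹) * k'⁻¹ := by group
      _ = x := e1
  have e2' : g * x' * g⁻¹ = x' := by
    calc k' * k * x' * (k' * k)⁻¹ = k' * (k * x' * k⁻¹) * k'⁻¹ := by group
      _ = x' := e2
  have e3' : g * nu * g⁻¹ = p * nu := by
    have f1 : k' * p = p * k' := mem_centralizer_singleton_iff.1 hkp'
    have f2 : k' * nu = nu * k' := (mem_nn.1 hnu).2 k' hk'
    calc k' * k * nu * (k' * k)⁻¹ = k' * (k * nu * k⁻¹) * k'⁻¹ := by group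
      _ = (k' * p) * nu * k'⁻¹ := by rw [hknu]; group
      _ = p * (k' * nu) * k'⁻¹ := by rw [f1]; group
      _ = p * nu := by rw [f2]; group
  have hxp : x * p = p * x := h.ws_comm hp x hxw p (h.mem_ws_self hp)
  have hxp' : x' * p = p * x' := h.ws_comm hp x' hxw' p (h.mem_ws_self hp)
  have e4 : g * (x * x' * nu) * g⁻¹ = p * (x * x' * nu) := by
    calc g * (x * x' * nu) * g⁻¹ = (g * x * g⁻¹) * (g * x' * g⁻¹) * (g * nu * g⁻¹) := by group
      _ = x * (x' * p) * nu := by rw [e1', e2', e3']; group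
      _ = (x * p) * x' * nu := by rw [hxp']; group
      _ = p * (x * x' * nu) := by rw [hxp]; group
  refine le_trans (fun u hu => ?_) (h.inf_mul_le hs hsp)
  refine ⟨hD hu, ?_⟩
  have h5 : g⁻¹ * u * g ∈ ws V x ⊓ ws V x' := by
    have f1 := conj_mem_ws g⁻¹ hu.1
    have f2 := conj_mem_ws g⁻¹ hu.2
    have f3 : g⁻¹ * x * g⁻¹⁻¹ = x := by
      rw [inv_inv]; nth_rewrite 1 [← e1']; group
    have f4 : g⁻¹ * x' * g⁻¹⁻¹ = x' := by
      rw [inv_inv]; nth_rewrite 1 [← e2']; group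
    rw [f3] at f1
    rw [f4] at f2
    rw [inv_inv] at f1 f2
    exact ⟨f1, f2⟩
  have h6 := conj_mem_ws g (hD h5)
  rw [e4] at h6
  have e5 : g * (g⁻¹ * u * g) * g⁻¹ = u := by group
  rwa [e5] at h6

end Cfsg.Agent.Omega.NOThree.TF

end

section


/-!
# The module `M_p` exists (NO-3S TwoFar, text #16267)

`MM V p` (a type, for every element `p` of `G`), `instance : AddCommGroup (MM V p)`,
`instance : DistribMulAction (centralizer {p}) (MM V p)`, `pim V p : G → MM V p`; `md_MM` : for every point `p`,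
`Md V p (pim V p)`; `finite_MM`.
-/

set_option autoImplicit false
set_option linter.unusedSectionVars false

namespace Cfsg.Agent.Omega.NOThree.TF

open Subgroup Cfsg Cfsg.Agent.ZN Cfsg.Agent.MinSimple.Geo Cfsg.Agent.Omega.CaseL Cfsg.Agent.Omega.NO3S.TwoOne
open Cfsg.Agent.Omega.NO3S.Pt

universe u v

variable {G : Type u} [Group G]

/-- the subgroup `⟨p⟩` of the abelianization of `W_p` -/
def SS (V : Subgroup G) (p : G) : Subgroup (Abelianization (ws V p)) :=
  closure {a | ∃ h : p ∈ ws V p, a = Abelianization.of ⟨p, h⟩}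

/-- `M_p = W_p/p` -/
def MM (V : Subgroup G) (p : G) : Type u := Additive (Abelianization (ws V p) ⧸ SS V p)

instance (V : Subgroup G) (p : G) : AddCommGroup (MM V p) :=
  inferInstanceAs (AddCommGroup (Additive (Abelianization (ws V p) ⧸ SS V p)))

/-- the class of an element of `W_p` -/
def pm (V : Subgroup G) (p : G) (a : ws V p) : MM V p :=
  Additive.ofMul (QuotientGroup.mk (Abelianization.of a) : Abelianization (ws V p) ⧸ SS V p)

theorem pm_mul (V : Subgroup G) (p : G) (a b : ws V p) : pm V p (a * b) = pm V p a + pm V p b := by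
  unfold pm
  rw [map_mul]
  rfl

theorem pm_surj (V : Subgroup G) (p : G) (m : MM V p) : ∃ a, pm V p a = m := by
  obtain ⟨x, hx⟩ := QuotientGroup.mk_surjective (Additive.toMul m)
  obtain ⟨a, ha⟩ := QuotientGroup.mk_surjective x
  refine ⟨a, ?_⟩
  have h1 : Abelianization.of a = x := ha
  unfold pm
  rw [h1, hx]
  rfl

/-- conjugation by an element of `C(p)` on `W_p` -/
def cW (V : Subgroup G) (p : G) (g : centralizer ({p} : Set G)) : ws V p →* ws V p where
  toFun a := ⟨(g : G) * a * (g : G)⁻¹, conj_mem_ws_of_mem g.2 a.2⟩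
  map_one' := Subtype.ext (by simp)
  map_mul' a b := Subtype.ext (by
    change (g : G) * (a * b) * (g : G)⁻¹ = (g * a * (g : G)⁻¹) * (g * b * (g : G)⁻¹)
    group)

theorem SS_le (V : Subgroup G) (p : G) (g : centralizer ({p} : Set G)) :
    SS V p ≤ (SS V p).comap (Abelianization.map (cW V p g)) := by
  conv_lhs => unfold SS
  rw [closure_le]
  rintro _ ⟨h, rfl⟩
  change Abelianization.map (cW V p g) (Abelianization.of ⟨p, h⟩) ∈ SS V p
  rw [Abelianization.map_of]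
  refine subset_closure ⟨h, ?_⟩
  congr 1
  refine Subtype.ext ?_
  change (g : G) * p * (g : G)⁻¹ = p
  exact NO3S.Dual.conj_eq_of_comm (mem_centralizer_singleton_iff.1 g.2)

/-- the action of `g ∈ C(p)` on `M_p` -/
def aM (V : Subgroup G) (p : G) (g : centralizer ({p} : Set G)) : MM V p →+ MM V p :=
  MonoidHom.toAdditive (QuotientGroup.map (SS V p) (SS V p) (Abelianization.map (cW V p g)) (SS_le V p g))

theorem aM_pm (V : Subgroup G) (p : G) (g : centralizer ({p} : Set G)) (a : ws V p) :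
    aM V p g (pm V p a) = pm V p (cW V p g a) := rfl

instance (V : Subgroup G) (p : G) : DistribMulAction (centralizer ({p} : Set G)) (MM V p) where
  smul g m := aM V p g m
  one_smul m := by
    obtain ⟨a, rfl⟩ := pm_surj V p m
    change aM V p 1 (pm V p a) = _
    rw [aM_pm]
    congr 1
    refine Subtype.ext ?_
    change (1 : G) * a * (1 : G)⁻¹ = a
    group
  mul_smul g h m := by
    obtain ⟨a, rfl⟩ := pm_surj V p m
    change aM V p (g * h) (pm V p a) = aM V p g (aM V p h (pm V p a))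
    rw [aM_pm, aM_pm, aM_pm]
    congr 1
    refine Subtype.ext ?_
    change (g : G) * h * a * ((g : G) * h)⁻¹ = g * (h * a * (h : G)⁻¹) * (g : G)⁻¹
    group
  smul_zero g := map_zero (aM V p g)
  smul_add g a b := map_add (aM V p g) a b

theorem smul_pm (V : Subgroup G) (p : G) (g : centralizer ({p} : Set G)) (a : ws V p) :
    g • pm V p a = pm V p (cW V p g a) := rfl

open Classical in
/-- `π : W_p → M_p` (`0` outside `W_p`) -/
noncomputable def pim (V : Subgroup G) (p a : G) : MM V p := if h : a ∈ ws V p then pm V p ⟨a, h⟩ else 0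

theorem pim_of_mem {V : Subgroup G} {p a : G} (h : a ∈ ws V p) : pim V p a = pm V p ⟨a, h⟩ := dif_pos h

/-- **`M_p` exists** -/
theorem md_MM {T V : Subgroup G} {z p : G} (h : Fr T V z) (hp : Col V p p) : Md V p (pim V p) where
  map_mul a ha b hb := by
    rw [pim_of_mem ha, pim_of_mem hb, pim_of_mem (mul_mem ha hb), ← pm_mul]
    rfl
  surj m := by
    obtain ⟨a, rfl⟩ := pm_surj V p m
    exact ⟨a, a.2, pim_of_mem a.2⟩
  ker a ha := by
    have hpw := h.mem_ws_self hp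
    rw [pim_of_mem ha]
    have h1 : pm V p ⟨a, ha⟩ = 0 ↔ Abelianization.of (⟨a, ha⟩ : ws V p) ∈ SS V p := by
      rw [← QuotientGroup.eq_one_iff]
      rfl
    have hS : SS V p = zpowers (Abelianization.of ⟨p, hpw⟩) := by
      unfold SS
      rw [zpowers_eq_closure]
      congr 1
      ext x
      constructor
      · rintro ⟨_, rfl⟩; rfl
      · rintro rfl; exact ⟨hpw, rfl⟩
    have hcomm : _root_.commutator (ws V p) = ⊥ := by
      rw [commutator_def, Subgroup.commutator_eq_bot_iff_le_centralizer]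
      rintro x -
      rw [mem_centralizer_iff]
      rintro y -
      exact Subtype.ext (h.ws_comm hp y y.2 x x.2)
    have hinj : Function.Injective (Abelianization.of : ws V p →* Abelianization (ws V p)) := by
      rw [← MonoidHom.ker_eq_bot_iff, Abelianization.ker_of, hcomm]
    have hpp : (⟨p, hpw⟩ : ws V p) * ⟨p, hpw⟩ = 1 := Subtype.ext (h.pt_sq hp)
    rw [h1, hS, mem_zpowers_iff_of_mul_self (by rw [← map_mul, hpp, map_one])]
    constructor
    · rintro (e | e)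
      · left
        rw [← map_one Abelianization.of] at e
        exact congrArg Subtype.val (hinj e)
      · right
        exact congrArg Subtype.val (hinj e)
    · rintro (rfl | rfl)
      · left
        exact map_one Abelianization.of
      · right; rfl
  smul g a ha := by
    rw [pim_of_mem ha, pim_of_mem (conj_mem_ws_of_mem g.2 ha), smul_pm]
    rfl

instance finite_MM [Finite G] (V : Subgroup G) (p : G) : Finite (MM V p) :=
  Finite.of_surjective (pm V p) (pm_surj V p)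

end Cfsg.Agent.Omega.NOThree.TF

end

section


/-!
# TwoFar, text #16267, section 3: (D) for special `x`

`p`, `q` a critical pair at distance `m + 3`, `p₁` the first point of the path, `λ = π p₁`, `A = W_q` as a subgroup of
`H = C(p)`, `JJ` the blocks of `M = M_p`.

* `OJ A J λ` : the group generated by the `A_J^c`, `c ∈ C_J(λ)`, `A_J = A ∩ J`;
* `Sec` : the hypotheses on the pair, `SecJ` : the hypotheses on the block `J` with `A_J ≠ 1` ((b2), (b4));
* `SecJ.main` : for `x = p₁^h`, `h ∈ J`, `f ∈ W_q` with `c = [λ^h, f] ≠ 0`: `W_x ∩ W_{x^f} ≤ W_p`, or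
  `λ ∈ BJ J` and `c ∈ λ^H`.  The type of `J` : either `TyF` (the `[c, O_J^h]` do not lie in two cosets of `CC`), and
  then `W_x ∩ W_{x^f} ≤ W_p`, or (*) every element of `N_H(J)` acts on `BJ J` as an element of `J`.
-/

set_option autoImplicit false
set_option linter.unusedSectionVars false

namespace Cfsg.Agent.Omega.NOThree.TF

open Subgroup Cfsg Cfsg.Agent.ZN Cfsg.Agent.MinSimple.Geo Cfsg.Agent.Omega.CaseL Cfsg.Agent.Omega.NO3S.TwoOne
open Cfsg.Agent.Omega.NO3S.Pt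
open Cfsg.Agent.Omega.NO3S.Dual (nn mem_nn DW)
open Cfsg.Agent.ZN.Block (conj_mem_of_normalizer conj_mem_of_normalizer' le_normalizer_of_forall
  mem_normalizer_of)

universe u v

section defs

variable {H : Type u} [Group H] {M : Type v} [AddCommGroup M] [DistribMulAction H M]

/-- `O_J` : generated by the conjugates of `A_J = A ∩ J` under `C_J(λ)` -/
def OJ (A J : Subgroup H) (lam : M) : Subgroup H :=
  closure {y | ∃ a ∈ A ⊓ J, ∃ c ∈ J, c • lam = lam ∧ y = c * a * c⁻¹}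

theorem OJ_le (A J : Subgroup H) (lam : M) : OJ A J lam ≤ J := by
  unfold OJ
  rw [closure_le]
  rintro _ ⟨a, ha, c, hc, -, rfl⟩
  exact mul_mem (mul_mem hc ha.2) (inv_mem hc)

theorem OJ_fix {A J : Subgroup H} {lam : M} (hA : ∀ a ∈ A, a • lam = lam) {o : H} (ho : o ∈ OJ A J lam) :
    o • lam = lam := by
  have h1 : OJ A J lam ≤ MulAction.stabilizer H lam := by
    unfold OJ
    rw [closure_le]
    rintro _ ⟨a, ha, c, -, hcl, rfl⟩
    change (c * a * c⁻¹) • lam = lam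
    have e : c⁻¹ • lam = lam := by rw [inv_smul_eq_iff, hcl]
    rw [mul_smul, mul_smul, e, hA a ha.1, hcl]
  exact h1 ho

end defs

variable {G : Type u} [Group G] {M : Type v} [AddCommGroup M]

/-- the commutators `c = [λ^h, a]`, in the order used here -/
def cc {H : Type u} [Group H] [DistribMulAction H M] (h a : H) (lam : M) : M := a • h • lam - h • lam

/-- the pair `(p, q)` and the module `M_p` -/
structure Sec (T V : Subgroup G) (z : G) (m : ℕ) (p q p₁ : G) [DistribMulAction (centralizer ({p} : Set G)) M]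
    (π : G → M) (JJ : Set (Subgroup (centralizer ({p} : Set G)))) : Prop where
  fr : Fr T V z
  cr : Cr V (m + 3) p q
  col : Col V p p₁
  ne : p₁ ≠ p
  pth : Pth V (m + 2) p₁ q
  md : Md V p π
  blk : Blk M JJ
  /-- exactness: `{w ∈ W_p : [w, W_q] ≤ p} = C_{W_p}(W_q)` -/
  ex : ∀ w ∈ ws V p, (∀ f ∈ ws V q, f * w * f⁻¹ = w ∨ f * w * f⁻¹ = p * w) → ∀ f ∈ ws V q, f * w = w * f
  /-- `A` centralises `CC` (from `A = ∏ A_J`) -/
  cen : ∀ f : centralizer ({p} : Set G), (f : G) ∈ ws V q → ∀ c ∈ CC M JJ, f • c = c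
  /-- (b3) -/
  nn_le : ∀ w ∈ nn (ws V p) (kq V p), π w ∈ CC M JJ

/-- the block `J` with `A_J ≠ 1`; `A = W_q`; without (b4) -/
structure SecJ₀ (V : Subgroup G) (p q p₁ : G) [DistribMulAction (centralizer ({p} : Set G)) M]
    (π : G → M) (JJ : Set (Subgroup (centralizer ({p} : Set G)))) (J : Subgroup (centralizer ({p} : Set G))) :
    Prop where
  mem : J ∈ JJ
  /-- the `J`-component of an element of `A` -/
  act : ∀ f ∈ (ws V q).subgroupOf (centralizer ({p} : Set G)),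
    ∃ f' ∈ (ws V q).subgroupOf (centralizer ({p} : Set G)) ⊓ J, ∀ b ∈ BJ M J, f • b = f' • b
  /-- `J = ⟨A_J^J⟩` (modulo the kernel) -/
  gen : ∀ g ∈ J, ∃ y ∈ closure {y | ∃ a ∈ (ws V q).subgroupOf (centralizer ({p} : Set G)) ⊓ J, ∃ j ∈ J,
    y = j * a * j⁻¹}, ∀ v : M, g • v = y • v
  /-- `v_J ≠ 0` -/
  moves : ∃ g ∈ J, g • π p₁ ≠ π p₁

/-- (b4) for one `h ∈ J` -/
def B4 (V : Subgroup G) (p q p₁ : G) [DistribMulAction (centralizer ({p} : Set G)) M]
    (π : G → M) (JJ : Set (Subgroup (centralizer ({p} : Set G)))) (J : Subgroup (centralizer ({p} : Set G)))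
    (h : centralizer ({p} : Set G)) : Prop :=
  ∀ a ∈ (ws V q).subgroupOf (centralizer ({p} : Set G)) ⊓ J, cc h a (π p₁) ≠ 0 →
    cc h a (π p₁) ∉ CC M JJ ∧ ∃ o ∈ OJ ((ws V q).subgroupOf (centralizer ({p} : Set G))) J (π p₁),
      (h * o * h⁻¹) • cc h a (π p₁) - cc h a (π p₁) ∉ CC M JJ

/-- type (F) in the form used, for one `h ∈ J` : the `[c, O_J^h]` do not lie in two cosets of `CC` -/
def FF4 (V : Subgroup G) (p q p₁ : G) [DistribMulAction (centralizer ({p} : Set G)) M]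
    (π : G → M) (JJ : Set (Subgroup (centralizer ({p} : Set G)))) (J : Subgroup (centralizer ({p} : Set G)))
    (h : centralizer ({p} : Set G)) : Prop :=
  ∀ a ∈ (ws V q).subgroupOf (centralizer ({p} : Set G)) ⊓ J, cc h a (π p₁) ≠ 0 → ∀ v : M,
    ∃ o ∈ OJ ((ws V q).subgroupOf (centralizer ({p} : Set G))) J (π p₁),
      (h * o * h⁻¹) • cc h a (π p₁) - cc h a (π p₁) ∉ CC M JJ ∧
      (h * o * h⁻¹) • cc h a (π p₁) - cc h a (π p₁) - v ∉ CC M JJ

/-- the block `J` with `A_J ≠ 1`; `A = W_q` -/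
structure SecJ (V : Subgroup G) (p q p₁ : G) [DistribMulAction (centralizer ({p} : Set G)) M]
    (π : G → M) (JJ : Set (Subgroup (centralizer ({p} : Set G)))) (J : Subgroup (centralizer ({p} : Set G))) :
    Prop extends SecJ₀ V p q p₁ π JJ J where
  /-- (b4) -/
  b4 : ∀ h ∈ J, B4 V p q p₁ π JJ J h

/-- type (F) in the form used: the `[c, O_J^h]` do not lie in two cosets of `CC` -/
def TyF (V : Subgroup G) (p q p₁ : G) [DistribMulAction (centralizer ({p} : Set G)) M]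
    (π : G → M) (JJ : Set (Subgroup (centralizer ({p} : Set G)))) (J : Subgroup (centralizer ({p} : Set G))) :
    Prop := ∀ h ∈ J, FF4 V p q p₁ π JJ J h

/-- (*) -/
def TyS {H : Type u} [Group H] (M : Type v) [AddCommGroup M] [DistribMulAction H M] (J : Subgroup H) : Prop :=
  ∀ g : H, cj g J = J → ∃ y ∈ J, ∀ b ∈ BJ M J, g • b = y • b

/-! ### the pair -/

namespace Sec

variable {T V : Subgroup G} {z : G} {m : ℕ} {p q p₁ : G} [DistribMulAction (centralizer ({p} : Set G)) M]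
  {π : G → M} {JJ : Set (Subgroup (centralizer ({p} : Set G)))} (s : Sec T V z m p q p₁ π JJ)
include s

theorem hp : Col V p p := s.col.left

theorem hq : Col V q q := s.cr.path.right

theorem wq_le [Finite G] : ws V q ≤ centralizer ({p} : Set G) := s.cr.symm.cent s.fr

/-- `W_q` centralises `W_{p₁}` -/
theorem com₁ : NO3S.Pt.Com V p₁ q := s.cr.min (m + 2) (by omega) _ _ s.pth

theorem p₁_mem : p₁ ∈ ws V p := s.fr.mem_ws_of_col s.col

theorem p₁_mem' : p₁ ∈ ws V p₁ := s.fr.mem_ws_self s.col.right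

/-- `A` fixes `λ` -/
theorem fix_lam {f : centralizer ({p} : Set G)} (hf : (f : G) ∈ ws V q) : f • π p₁ = π p₁ := by
  rw [← s.md.smul f p₁ s.p₁_mem]
  congr 1
  exact NO3S.Dual.conj_eq_of_comm (s.com₁ p₁ s.p₁_mem' f hf).symm

/-- every element of `O_J^h` is induced by an element centralising `W_x`, `x = p₁^h` -/
theorem lift_OJ (J : Subgroup (centralizer ({p} : Set G))) (h : centralizer ({p} : Set G))
    {o : centralizer ({p} : Set G)} (ho : o ∈ OJ ((ws V q).subgroupOf (centralizer ({p} : Set G))) J (π p₁)) :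
    ∃ g : centralizer ({p} : Set G), (g : G) ∈ centralizer (ws V (h * p₁ * (h : G)⁻¹) : Set G) ∧
      ∀ v : M, g • v = (h * o * h⁻¹) • v := by
  -- first `h = 1`
  have key : ∃ g : centralizer ({p} : Set G), (g : G) ∈ centralizer (ws V p₁ : Set G) ∧
      ∀ v : M, g • v = o • v := by
    unfold OJ at ho
    induction ho using Subgroup.closure_induction with
    | mem x hx =>
      obtain ⟨a, ⟨ha, haJ⟩, c, -, hcl, rfl⟩ := hx
      obtain ⟨k, hk, hkc⟩ := s.md.fix_lift s.fr s.col s.ne hcl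
      refine ⟨k * c * a * (k * c)⁻¹, ?_, fun v => ?_⟩
      · have h1 : (a : G) ∈ centralizer (ws V p₁ : Set G) := by
          rw [mem_centralizer_iff]
          intro b hb
          exact s.com₁ b hb a ha
        have h2 : ((k * c : centralizer ({p} : Set G)) : G) ∈ centralizer ({p₁} : Set G) := by
          rw [mem_centralizer_singleton_iff]
          exact NO3S.Dual.comm_of_conj_eq hkc
        exact conj_mem_of_normalizer (normalizer_le_normalizer_centralizer _)
          (centralizer_le_normalizer_ws V p₁ h2) h1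
      · have hk' := (s.md.mem_kq_iff s.fr s.hp k).1 hk
        have hk'' : ∀ v : M, k⁻¹ • v = v := fun v => by rw [inv_smul_eq_iff, hk']
        rw [mul_inv_rev]
        simp only [mul_smul, hk', hk'']
    | one => exact ⟨1, one_mem _, fun v => rfl⟩
    | mul x y _ _ hx hy =>
      obtain ⟨g, hg, hg'⟩ := hx
      obtain ⟨k, hk, hk'⟩ := hy
      exact ⟨g * k, mul_mem hg hk, fun v => by rw [mul_smul, mul_smul, hk', hg']⟩
    | inv x _ hx =>
      obtain ⟨g, hg, hg'⟩ := hx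
      exact ⟨g⁻¹, inv_mem hg, fun v => by rw [inv_smul_eq_iff, hg', smul_inv_smul]⟩
  obtain ⟨g, hg, hg'⟩ := key
  refine ⟨h * g * h⁻¹, ?_, fun v => ?_⟩
  · rw [← cj_ws, mem_centralizer_iff]
    intro b hb
    rw [SetLike.mem_coe, mem_cj] at hb
    have := mem_centralizer_iff.1 hg _ hb
    change b * ((h : G) * g * (h : G)⁻¹) = (h : G) * g * (h : G)⁻¹ * b
    calc b * ((h : G) * g * (h : G)⁻¹) = h * (((h : G)⁻¹ * b * h) * g) * (h : G)⁻¹ := by group
      _ = h * (g * ((h : G)⁻¹ * b * h)) * (h : G)⁻¹ := by rw [this]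
      _ = (h : G) * g * (h : G)⁻¹ * b := by group
  · simp only [mul_smul, hg']

/-- **(3.1)** -/
theorem span [Finite G] {x x' : G} (hx : Col V p x) (hx' : Col V p x') (hxp : x ≠ p) (hxp' : x' ≠ p)
    (hbad : ¬ ws V x ⊓ ws V x' ≤ ws V p) {g : G} (hg : g ∈ centralizer (ws V x : Set G)) :
    ∃ a b w, (a = 1 ∨ a = x) ∧ (b = 1 ∨ b = x') ∧ w ∈ nn (ws V p) (kq V p) ∧ g * x' * g⁻¹ = a * b * w := by
  have hxw := s.fr.mem_ws_of_col hx
  have hxw' := s.fr.mem_ws_of_col hx'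
  have h1 := ((s.fr.lemD hx hx' hxp hxp').resolve_left hbad g (mem_sup_left hg)).2
  have hcl : closure {x, x'} = zpowers x ⊔ zpowers x' := by
    rw [zpowers_eq_closure, zpowers_eq_closure, ← Subgroup.closure_union]
    rfl
  have hzx : zpowers x ≤ ws V p := by rwa [zpowers_le]
  have hzx' : zpowers x' ≤ ws V p := by rwa [zpowers_le]
  rw [hcl] at h1
  obtain ⟨c, hc, w, hw, e⟩ := NO3S.Dual.mem_sup_of_comm (s.fr.ws_comm s.hp) (sup_le hzx hzx')
    (inf_le_left : nn (ws V p) (kq V p) ≤ ws V p) h1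
  obtain ⟨a, ha, b, hb, rfl⟩ := NO3S.Dual.mem_sup_of_comm (s.fr.ws_comm s.hp) hzx hzx' hc
  exact ⟨a, b, w, (mem_zpowers_iff_of_mul_self (s.fr.ws_sq s.hp x hxw)).1 ha,
    (mem_zpowers_iff_of_mul_self (s.fr.ws_sq s.hp x' hxw')).1 hb, hw, e⟩

/-- the point `p₁^h` -/
theorem col_h (h : centralizer ({p} : Set G)) : Col V p (h * p₁ * (h : G)⁻¹) := by
  have h1 := s.col.conj (h : G)
  have e : (h : G) * p * (h : G)⁻¹ = p := NO3S.Dual.conj_eq_of_comm (mem_centralizer_singleton_iff.1 h.2)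
  rwa [e] at h1

theorem ne_h (h : centralizer ({p} : Set G)) : (h : G) * p₁ * (h : G)⁻¹ ≠ p := by
  intro e
  apply s.ne
  have e1 : (h : G) * p = p * h := mem_centralizer_singleton_iff.1 h.2
  calc p₁ = (h : G)⁻¹ * (h * p₁ * (h : G)⁻¹) * h := by group
    _ = (h : G)⁻¹ * (p * h) := by rw [e]; group
    _ = p := by rw [← e1]; group

theorem π_h (h : centralizer ({p} : Set G)) : π (h * p₁ * (h : G)⁻¹) = h • π p₁ := s.md.smul h p₁ s.p₁_mem

theorem lam_not_mem {J : Subgroup (centralizer ({p} : Set G))} (hJ : J ∈ JJ)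
    (hm : ∃ g ∈ J, g • π p₁ ≠ π p₁) : π p₁ ∉ CC M JJ := by
  obtain ⟨g, hg, hne⟩ := hm
  exact fun h => hne (h J hJ g hg)

end Sec

/-! ### the block `J` -/

namespace SecJ₀

variable {T V : Subgroup G} {z : G} {m : ℕ} {p q p₁ : G} [DistribMulAction (centralizer ({p} : Set G)) M]
  {π : G → M} {JJ : Set (Subgroup (centralizer ({p} : Set G)))} {J : Subgroup (centralizer ({p} : Set G))}

/-- `c = [λ^h, f]` only depends on the `J`-component of `f` -/
theorem exists_comp (s : Sec T V z m p q p₁ π JJ) (j : SecJ₀ V p q p₁ π JJ J)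
    {h f : centralizer ({p} : Set G)} (hh : h ∈ J) (hf : (f : G) ∈ ws V q) :
    ∃ f' : centralizer ({p} : Set G), (f' : G) ∈ ws V q ∧ f' ∈ J ∧ (∀ b ∈ BJ M J, f • b = f' • b) ∧
      cc h f (π p₁) = cc h f' (π p₁) := by
  obtain ⟨f', ⟨hf', hf'J⟩, hact⟩ := j.act f hf
  refine ⟨f', hf', hf'J, hact, ?_⟩
  have key : ∀ a : centralizer ({p} : Set G), (a : G) ∈ ws V q →
      cc h a (π p₁) = a • (h • π p₁ - π p₁) - (h • π p₁ - π p₁) := by
    intro a ha
    unfold cc
    rw [smul_sub, s.fix_lam ha]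
    abel
  rw [key f hf, key f' hf', hact _ (sub_mem_BJ hh _)]

theorem cc_mem {h f : centralizer ({p} : Set G)} (hf : f ∈ J) :
    cc h f (π p₁) ∈ BJ M J := sub_mem_BJ hf _

/-- the images of `x = p₁^h` and of its conjugates under `O_J^h` -/
theorem step [Finite G] (s : Sec T V z m p q p₁ π JJ) (j : SecJ₀ V p q p₁ π JJ J)
    {h f : centralizer ({p} : Set G)} (hh : h ∈ J) (hf : (f : G) ∈ ws V q) (hc : cc h f (π p₁) ≠ 0)
    (hb4 : B4 V p q p₁ π JJ J h)
    (hbad : ¬ ws V (h * p₁ * (h : G)⁻¹) ⊓ ws V (((f * h : centralizer ({p} : Set G)) : G) * p₁ *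
      ((f * h : centralizer ({p} : Set G)) : G)⁻¹) ≤ ws V p)
    {o : centralizer ({p} : Set G)} (ho : o ∈ OJ ((ws V q).subgroupOf (centralizer ({p} : Set G))) J (π p₁)) :
    (h * o * h⁻¹) • cc h f (π p₁) - cc h f (π p₁) ∈ CC M JJ ∨
    ∃ g : centralizer ({p} : Set G), (g : G) ∈ centralizer (ws V (h * p₁ * (h : G)⁻¹) : Set G) ∧
      (∀ v : M, g • v = (h * o * h⁻¹) • v) ∧ ∃ w ∈ nn (ws V p) (kq V p),
      (g : G) * (((f * h : centralizer ({p} : Set G)) : G) * p₁ * ((f * h : centralizer ({p} : Set G)) : G)⁻¹) *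
        (g : G)⁻¹ = (h * p₁ * (h : G)⁻¹) * (((f * h : centralizer ({p} : Set G)) : G) * p₁ *
          ((f * h : centralizer ({p} : Set G)) : G)⁻¹) * w ∧
      (h * o * h⁻¹) • cc h f (π p₁) = h • π p₁ + cc h f (π p₁) + π w := by
  obtain ⟨g, hg, hgv⟩ := s.lift_OJ J h ho
  set x : G := h * p₁ * (h : G)⁻¹ with hx
  set x' : G := ((f * h : centralizer ({p} : Set G)) : G) * p₁ * ((f * h : centralizer ({p} : Set G)) : G)⁻¹ with hx'
  set c := cc h f (π p₁) with hcdef
  have hxc : Col V p x := s.col_h h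
  have hxc' : Col V p x' := s.col_h (f * h)
  have hxw := s.fr.mem_ws_of_col hxc
  have hxw' := s.fr.mem_ws_of_col hxc'
  have hπx : π x = h • π p₁ := s.π_h h
  have hπx' : π x' = h • π p₁ + c := by
    rw [s.π_h (f * h), mul_smul, hcdef]
    unfold cc
    abel
  obtain ⟨a, b, w, ha, hb, hw, e⟩ := s.span hxc hxc' (s.ne_h h) (s.ne_h (f * h)) hbad hg
  have hww := (mem_nn.1 hw).1
  have hwC := s.nn_le w hw
  have h1 : π (g * x' * (g : G)⁻¹) = h • π p₁ + (h * o * h⁻¹) • c := by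
    rw [s.md.smul g x' hxw', hgv, hπx', smul_add]
    congr 1
    rw [mul_smul, inv_smul_smul, mul_smul, OJ_fix (fun a ha => s.fix_lam ha) ho]
  have h1' : π (g * x' * (g : G)⁻¹) = (g * (f * h)) • π p₁ := by
    rw [s.md.smul g x' hxw', s.π_h (f * h)]
    simp only [mul_smul]
  have hlam := s.lam_not_mem j.mem j.moves
  obtain ⟨f', hf', hf'J, -, hcf⟩ := j.exists_comp s hh hf
  have hcC : c ∉ CC M JJ := by
    have := (hb4 f' ⟨hf', hf'J⟩ (by rwa [← hcf])).1
    rwa [← hcf] at this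
  have two := s.md.two s.fr s.hp
  rcases ha with rfl | rfl <;> rcases hb with rfl | rfl
  · exfalso
    rw [one_mul, one_mul] at e
    rw [e] at h1'
    rw [h1'] at hwC
    exact hlam ((s.blk.smul_CC_iff _).1 hwC)
  · left
    rw [one_mul] at e
    rw [e, s.md.map_mul _ hxw' _ hww, hπx', add_assoc] at h1
    have h2 := add_left_cancel h1
    rw [← h2, add_sub_cancel_left]
    exact hwC
  · exfalso
    rw [mul_one] at e
    rw [e, s.md.map_mul _ hxw _ hww, hπx] at h1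
    have h2 := add_left_cancel h1
    rw [h2] at hwC
    exact hcC ((s.blk.smul_CC_iff _).1 hwC)
  · right
    refine ⟨g, hg, hgv, w, hw, e, ?_⟩
    rw [e, s.md.map_mul _ (mul_mem hxw hxw') _ hww, s.md.map_mul _ hxw _ hxw', hπx, hπx', add_assoc] at h1
    exact (add_left_cancel h1).symm

/-- the Sylow group `T` on `BJ J + CC ∋ λ` -/
theorem T_fix [Finite G] (s : Sec T V z m p q p₁ π JJ) (j : SecJ₀ V p q p₁ π JJ J) (hS : TyS M J)
    {T' : Subgroup G} (hT : ¬ 2 ∣ T'.relIndex (centralizer ({p} : Set G)))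
    (hTp : ∀ t ∈ T', t * p₁ * t⁻¹ = p₁ ∨ t * p₁ * t⁻¹ = p * p₁) {e y₀ : M} (he : e ∈ BJ M J) (hy₀ : y₀ ∈ CC M JJ)
    (hlam : π p₁ = e + y₀) {t : centralizer ({p} : Set G)} (ht : (t : G) ∈ T') :
    ∃ y ∈ J, (∀ b ∈ BJ M J, t • b = y • b) ∧ t • y₀ = y₀ ∧ ∀ ν ∈ CC M JJ, ν + y₀ ∈ BJ M J → t • ν = ν := by
  have hfix : ∀ t : centralizer ({p} : Set G), (t : G) ∈ T' → t • π p₁ = π p₁ := by
    intro t ht
    rw [← s.md.smul t p₁ s.p₁_mem, s.md.eq_iff s.fr s.hp (conj_mem_ws_of_mem t.2 s.p₁_mem) s.p₁_mem]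
    exact hTp t ht
  have hl : π p₁ ∈ BJ M J ⊔ CC M JJ := by
    rw [hlam]
    exact AddSubgroup.mem_sup.2 ⟨e, he, y₀, hy₀, rfl⟩
  have hcj : cj t J = J := s.blk.cj_eq j.mem hl (by rwa [hfix t ht]) (s.lam_not_mem j.mem j.moves)
  obtain ⟨y, hy, hyt⟩ := hS t hcj
  have h1 : y • e - e = y₀ - t • y₀ := by
    have h2 := hfix t ht
    rw [hlam, smul_add, hyt e he] at h2
    rw [sub_eq_sub_iff_add_eq_add, h2, add_comm]
  have h2 : y • π p₁ - π p₁ = y • e - e := by
    rw [hlam, smul_add, Blk.fix_CC j.mem hy hy₀]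
    abel
  have h3 : y • π p₁ = π p₁ := by
    refine s.blk.stab (s.md.two s.fr s.hp) (T := T'.subgroupOf (centralizer ({p} : Set G))) hT
      (fun t ht => hfix t ht) j.mem hy ?_
    rw [h2, h1]
    exact sub_mem hy₀ (s.blk.smul_CC t hy₀)
  have h4 : t • y₀ = y₀ := by
    rw [h3, sub_self] at h2
    rw [← h2] at h1
    exact (sub_eq_zero.1 h1.symm).symm
  refine ⟨y, hy, hyt, h4, fun ν hν hνb => ?_⟩
  have h5 : t • (ν + y₀) = ν + y₀ := by
    rw [hyt _ hνb]
    exact Blk.fix_CC j.mem hy (add_mem hν hy₀)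
  rw [smul_add, h4] at h5
  exact add_right_cancel h5

/-- `J = ⟨A_J^J⟩` is induced by elements which commute with every `w ∈ W_p` whose image lies in `CC` -/
theorem gen_comm [Finite G] (s : Sec T V z m p q p₁ π JJ) (j : SecJ₀ V p q p₁ π JJ J) {w : G} (hw : w ∈ ws V p)
    (hwC : π w ∈ CC M JJ) {g : centralizer ({p} : Set G)} (hg : g ∈ J) :
    ∃ y : centralizer ({p} : Set G), (∀ v : M, g • v = y • v) ∧ (y : G) * w = w * y := by
  obtain ⟨y, hy, hgy⟩ := j.gen g hg
  refine ⟨y, hgy, ?_⟩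
  -- `W_q` centralises `w`
  have h1 : ∀ f ∈ ws V q, f * w = w * f := by
    refine s.ex w hw fun f hf => ?_
    have hfc : f ∈ centralizer ({p} : Set G) := s.wq_le hf
    have h2 := s.cen ⟨f, hfc⟩ hf _ hwC
    rw [← s.md.smul ⟨f, hfc⟩ w hw] at h2
    exact (s.md.eq_iff s.fr s.hp (conj_mem_ws_of_mem hfc hw) hw).1 h2
  have key : closure {y | ∃ a ∈ (ws V q).subgroupOf (centralizer ({p} : Set G)) ⊓ J, ∃ i ∈ J, y = i * a * i⁻¹} ≤
      (centralizer ({w} : Set G)).subgroupOf (centralizer ({p} : Set G)) := by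
    rw [closure_le]
    rintro _ ⟨a, ⟨ha, -⟩, i, hi, rfl⟩
    change ((i * a * i⁻¹ : centralizer ({p} : Set G)) : G) ∈ centralizer ({w} : Set G)
    rw [mem_centralizer_singleton_iff]
    have ha' : (a : G) ∈ ws V q := ha
    have hap : (a : G) * p = p * a := mem_centralizer_singleton_iff.1 a.2
    have h3 : (i : G)⁻¹ * w * i = w ∨ (i : G)⁻¹ * w * i = p * w := by
      have h4 : (i⁻¹ : centralizer ({p} : Set G)) • π w = π w := Blk.fix_CC j.mem (inv_mem hi) hwC
      rw [← s.md.smul i⁻¹ w hw] at h4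
      have h5 := (s.md.eq_iff s.fr s.hp (conj_mem_ws_of_mem (i⁻¹).2 hw) hw).1 h4
      simpa using h5
    have h6 : (a : G) * ((i : G)⁻¹ * w * i) = ((i : G)⁻¹ * w * i) * a := by
      rcases h3 with e | e
      · rw [e]; exact h1 a ha'
      · rw [e, ← mul_assoc, hap, mul_assoc, h1 a ha', mul_assoc]
    change (i : G) * a * (i : G)⁻¹ * w = w * (i * a * (i : G)⁻¹)
    calc (i : G) * a * (i : G)⁻¹ * w = i * (a * ((i : G)⁻¹ * w * i)) * (i : G)⁻¹ := by group
      _ = w * (i * a * (i : G)⁻¹) := by rw [h6]; group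
  exact mem_centralizer_singleton_iff.1 (key hy)

/-- **(D) for special `x`** (3.2), (3.3): `x = p₁^h`, `h ∈ J`, `f ∈ W_q`, `c = [λ^h, f] ≠ 0`; `W_x ∩ W_{x^f} ≤ W_p`, or
`J` is not of type (F), (*) holds, `λ ∈ BJ J` and `c ∈ λ^H`.  (b4) and (F) are used for this `h` only. -/
theorem main [Finite G] (s : Sec T V z m p q p₁ π JJ) (j : SecJ₀ V p q p₁ π JJ J)
    {h f : centralizer ({p} : Set G)} (hh : h ∈ J) (hf : (f : G) ∈ ws V q) (hc : cc h f (π p₁) ≠ 0)
    (hb4 : B4 V p q p₁ π JJ J h) (hty : FF4 V p q p₁ π JJ J h ∨ TyS M J) :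
    ws V (h * p₁ * (h : G)⁻¹) ⊓ ws V (f * (h * p₁ * (h : G)⁻¹) * (f : G)⁻¹) ≤ ws V p ∨
      (¬ FF4 V p q p₁ π JJ J h ∧ TyS M J ∧ π p₁ ∈ BJ M J ∧
        ∃ g : centralizer ({p} : Set G), cc h f (π p₁) = g • π p₁) := by
  have ex' : (f : G) * (h * p₁ * (h : G)⁻¹) * (f : G)⁻¹ = ((f * h : centralizer ({p} : Set G)) : G) * p₁ *
      ((f * h : centralizer ({p} : Set G)) : G)⁻¹ := by
    change _ = (f : G) * h * p₁ * ((f : G) * h)⁻¹
    group
  rw [ex']
  by_cases hbad : ws V (h * p₁ * (h : G)⁻¹) ⊓ ws V (((f * h : centralizer ({p} : Set G)) : G) * p₁ *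
      ((f * h : centralizer ({p} : Set G)) : G)⁻¹) ≤ ws V p
  · exact Or.inl hbad
  have hstep := fun (o : centralizer ({p} : Set G)) ho => step s j hh hf hc hb4 hbad (o := o) ho
  obtain ⟨f', hf', hf'J, hff', hcf⟩ := exists_comp s j hh hf
  have hcB : cc h f (π p₁) ∈ BJ M J := by rw [hcf]; exact cc_mem hf'J
  have hb4' := hb4 f' ⟨hf', hf'J⟩ (by rwa [← hcf])
  rw [← hcf] at hb4'
  obtain ⟨hcC, o, ho, hoC⟩ := hb4'
  right
  have hnF : ¬ FF4 V p q p₁ π JJ J h := by
    intro hF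
    obtain ⟨o', ho', h1, h2⟩ := hF f' ⟨hf', hf'J⟩ (by rwa [← hcf]) (h • π p₁)
    rw [← hcf] at h1 h2
    rcases hstep o' ho' with h3 | ⟨g, -, -, w, hw, -, h3⟩
    · exact h1 h3
    · apply h2
      rw [h3]
      have e : h • π p₁ + cc h f (π p₁) + π w - cc h f (π p₁) - h • π p₁ = π w := by abel
      rw [e]
      exact s.nn_le w hw
  have hS := hty.resolve_left hnF
  refine ⟨hnF, hS, ?_⟩
  obtain ⟨g, hg, hgv, w, hw, hgx, hoc⟩ := (hstep o ho).resolve_left hoC
  have two := s.md.two s.fr s.hp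
  have hlamC := s.lam_not_mem j.mem j.moves
  have hww := (mem_nn.1 hw).1
  have hwC := s.nn_le w hw
  set x : G := h * p₁ * (h : G)⁻¹ with hx
  set x' : G := ((f * h : centralizer ({p} : Set G)) : G) * p₁ * ((f * h : centralizer ({p} : Set G)) : G)⁻¹ with hx'
  set c := cc h f (π p₁) with hcdef
  have hxc : Col V p x := s.col_h h
  have hxc' : Col V p x' := s.col_h (f * h)
  have hxw := s.fr.mem_ws_of_col hxc
  have hxw' := s.fr.mem_ws_of_col hxc'
  have hπx : π x = h • π p₁ := s.π_h h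
  have hπx'' : π x' = (f * h) • π p₁ := s.π_h (f * h)
  have hπx' : π x' = h • π p₁ + c := by
    rw [hπx'', mul_smul, hcdef]
    unfold cc
    abel
  have hOJ : h * o * h⁻¹ ∈ J := mul_mem (mul_mem hh (OJ_le _ _ _ ho)) (inv_mem hh)
  -- `λ + ν ∈ BJ J`
  have he : π p₁ + π w ∈ BJ M J := by
    have h1 : h • π p₁ + π w ∈ BJ M J := by
      have h2 := sub_mem (smul_mem_BJ hOJ hcB) hcB
      rwa [hoc, show h • π p₁ + c + π w - c = h • π p₁ + π w by abel] at h2
    have h2 := sub_mem h1 (sub_mem_BJ hh (π p₁))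
    rwa [show h • π p₁ + π w - (h • π p₁ - π p₁) = π p₁ + π w by abel] at h2
  have hle : π p₁ = (π p₁ + π w) + π w := by rw [add_assoc, two, add_zero]
  have hsx : π (x * x' * w) = c + π w := by
    rw [s.md.map_mul _ (mul_mem hxw hxw') _ hww, s.md.map_mul _ hxw _ hxw', hπx, hπx', ← add_assoc, two, zero_add]
  have hsx' : (g : G) * x' * (g : G)⁻¹ =
      ((g * (f * h) : centralizer ({p} : Set G)) : G) * p₁ * ((g * (f * h) : centralizer ({p} : Set G)) : G)⁻¹ := by
    change (g : G) * ((f * h : centralizer ({p} : Set G)) * p₁ * ((f * h : centralizer ({p} : Set G)) : G)⁻¹) *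
      (g : G)⁻¹ = (g : G) * (f * h : centralizer ({p} : Set G)) * p₁ * ((g : G) * (f * h : centralizer ({p} : Set G)))⁻¹
    group
  by_cases hν : π w = 0
  · rw [hν, add_zero] at he hsx
    refine ⟨he, g * (f * h), ?_⟩
    rw [← hsx, ← hgx, hsx', s.π_h]
  · exfalso
    apply hbad
    obtain ⟨T', hTC, -, hTi, hTp, hWT, hsoc⟩ := exists_T s.fr s.col s.ne
    set g₀ : centralizer ({p} : Set G) := g * (f * h) with hg₀
    -- an element of the Sylow group of `s` moving `w`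
    obtain ⟨t, ht, htw⟩ : ∃ t ∈ T', (g₀ : G) * t * (g₀ : G)⁻¹ * w ≠ w * (g₀ * t * (g₀ : G)⁻¹) := by
      by_contra hcon
      push Not at hcon
      apply hν
      have h1 : (g₀ : G)⁻¹ * w * g₀ ∈ ws V p := by
        have := conj_mem_ws_of_mem (inv_mem g₀.2) hww
        rwa [inv_inv] at this
      have h2 := hsoc _ h1 fun t ht => by
        have := hcon t ht
        calc t * ((g₀ : G)⁻¹ * w * g₀) = (g₀ : G)⁻¹ * ((g₀ : G) * t * (g₀ : G)⁻¹ * w) * g₀ := by group
          _ = (g₀ : G)⁻¹ * w * g₀ * t := by rw [this]; group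
      have h3 : w = g₀ * ((g₀ : G)⁻¹ * w * g₀) * (g₀ : G)⁻¹ := by group
      rw [s.md.ker w hww]
      rcases h2 with e | e
      · left; rw [h3, e]; group
      · right; rw [h3, e]
        exact NO3S.Dual.conj_eq_of_comm (mem_centralizer_singleton_iff.1 g₀.2)
    obtain ⟨y, hy, hyt, htν, -⟩ := T_fix s j hS hTi hTp he hwC hle (t := ⟨t, hTC ht⟩) ht
    set tt : centralizer ({p} : Set G) := ⟨t, hTC ht⟩ with htt
    have hj₀ : h * o * h⁻¹ * f' * h ∈ J := mul_mem (mul_mem hOJ hf'J) hh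
    set j₀ := h * o * h⁻¹ * f' * h with hj₀def
    have hg₀b : ∀ b ∈ BJ M J, g₀ • b = j₀ • b := by
      intro b hb
      have h1 : h • b ∈ BJ M J := smul_mem_BJ hh hb
      rw [hg₀, hj₀def, mul_smul, mul_smul, hff' _ h1, hgv]
      simp only [mul_smul]
    have hg₀b' : ∀ b ∈ BJ M J, g₀⁻¹ • b = j₀⁻¹ • b := by
      intro b hb
      rw [inv_smul_eq_iff, hg₀b _ (smul_mem_BJ (inv_mem hj₀) hb), smul_inv_smul]
    have hg₀ν : g₀ • π w = π w := by
      rw [hg₀, mul_smul, mul_smul, Blk.fix_CC j.mem hh hwC, s.cen f hf _ hwC, hgv, Blk.fix_CC j.mem hOJ hwC]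
    set t' := g₀ * tt * g₀⁻¹ with ht'
    have ht'b : ∀ b ∈ BJ M J, t' • b = (j₀ * y * j₀⁻¹) • b := by
      intro b hb
      have h1 : j₀⁻¹ • b ∈ BJ M J := smul_mem_BJ (inv_mem hj₀) hb
      rw [ht', mul_smul, mul_smul, hg₀b' b hb, hyt _ h1, hg₀b _ (smul_mem_BJ hy h1)]
      simp only [mul_smul]
    have ht'ν : t' • π w = π w := by
      have h1 : g₀⁻¹ • π w = π w := by rw [inv_smul_eq_iff, hg₀ν]
      rw [ht', mul_smul, mul_smul, h1, htν, hg₀ν]
    have hy₁ : j₀ * y * j₀⁻¹ ∈ J := mul_mem (mul_mem hj₀ hy) (inv_mem hj₀)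
    obtain ⟨y₂, hy₂, hy₂w⟩ := gen_comm s j hww hwC hy₁
    set k := y₂⁻¹ * t' with hk
    have hkb : ∀ b ∈ BJ M J, k • b = b := by
      intro b hb
      rw [hk, mul_smul, ht'b b hb, hy₂, inv_smul_smul]
    have hkν : k • π w = π w := by
      rw [hk, mul_smul, ht'ν, inv_smul_eq_iff, ← hy₂, Blk.fix_CC j.mem hy₁ hwC]
    have hkx : k • π x = π x := by
      rw [hπx, hle, smul_add h, smul_add, hkb _ (smul_mem_BJ hh he), Blk.fix_CC j.mem hh hwC, hkν]
    have hkx' : k • π x' = π x' := by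
      rw [hπx', smul_add, ← hπx, hkx, hkb c hcB]
    have ht'w : (t' : G) * w * (t' : G)⁻¹ = p * w := by
      have h1 := ht'ν
      rw [← s.md.smul t' w hww] at h1
      refine ((s.md.eq_iff s.fr s.hp (conj_mem_ws_of_mem t'.2 hww) hww).1 h1).resolve_left fun e => ?_
      exact htw (NO3S.Dual.comm_of_conj_eq e)
    have hkw : (k : G) * w * (k : G)⁻¹ = p * w := by
      have h1 : (y₂ : G) * p = p * y₂ := mem_centralizer_singleton_iff.1 y₂.2
      change (y₂ : G)⁻¹ * t' * w * ((y₂ : G)⁻¹ * t')⁻¹ = p * w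
      calc (y₂ : G)⁻¹ * t' * w * ((y₂ : G)⁻¹ * t')⁻¹ = (y₂ : G)⁻¹ * (t' * w * (t' : G)⁻¹) * y₂ := by group
        _ = (y₂ : G)⁻¹ * (p * (w * y₂)) := by rw [ht'w]; group
        _ = (y₂ : G)⁻¹ * ((p * y₂) * w) := by rw [← hy₂w]; group
        _ = p * w := by rw [← h1]; group
    refine inf_le_of_kill s.fr s.md s.nn_le hxc hxc' hw ?_ ?_ ?_ k.2 ?_ ?_ hkw ?_ ?_ ?_
    · rw [hπx, s.blk.smul_CC_iff]
      exact hlamC
    · rw [hπx'', s.blk.smul_CC_iff]
      exact hlamC
    · rw [hπx, hπx', ← add_assoc, two, zero_add]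
      exact hcC
    · rw [s.md.smul k x hxw, hkx]
    · rw [s.md.smul k x' hxw', hkx']
    · rw [← hgx, hsx']
      exact s.col_h _
    · rw [← hgx, hsx']
      exact s.ne_h _
    · rintro u ⟨hu, hu'⟩
      have h1 := conj_mem_ws (g : G) hu'
      rw [hgx] at h1
      have h2 := mem_centralizer_iff.1 hg u hu
      rwa [← h2, mul_inv_cancel_right] at h1

end SecJ₀

namespace SecJ

variable {T V : Subgroup G} {z : G} {m : ℕ} {p q p₁ : G} [DistribMulAction (centralizer ({p} : Set G)) M]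
  {π : G → M} {JJ : Set (Subgroup (centralizer ({p} : Set G)))} {J : Subgroup (centralizer ({p} : Set G))}

/-- **(D) for special `x`**, (b4) and the type for all `h ∈ J` -/
theorem main [Finite G] (s : Sec T V z m p q p₁ π JJ) (j : SecJ V p q p₁ π JJ J)
    {h f : centralizer ({p} : Set G)} (hh : h ∈ J) (hf : (f : G) ∈ ws V q) (hc : cc h f (π p₁) ≠ 0)
    (hty : TyF V p q p₁ π JJ J ∨ TyS M J) :
    ws V (h * p₁ * (h : G)⁻¹) ⊓ ws V (f * (h * p₁ * (h : G)⁻¹) * (f : G)⁻¹) ≤ ws V p ∨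
      (¬ TyF V p q p₁ π JJ J ∧ TyS M J ∧ π p₁ ∈ BJ M J ∧
        ∃ g : centralizer ({p} : Set G), cc h f (π p₁) = g • π p₁) := by
  rcases SecJ₀.main s j.toSecJ₀ hh hf hc (j.b4 h hh) (hty.imp (fun hF => hF h hh) id) with h1 | ⟨h1, h2, h3⟩
  · exact Or.inl h1
  · exact Or.inr ⟨fun hF => h1 (hF h hh), h2, h3⟩

end SecJ

end Cfsg.Agent.Omega.NOThree.TF

end

section


/-!
# NO-3S TwoFar: THEOREM ONE (helper430, bb #17614)

A finite group `H` acts faithfully on a finite `F₂`-space `M`; `Λ` is an `H`-invariant set of nonzero vectors (the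
line vectors), `U ν ∋ ν` (`ν ∈ Λ`) subspaces permuted by `H`, `B_ν = bb (U ν) = C_H(U_ν) ∩ C_H(M/U_ν)`.
`Sys`: (F2') every functional of `U_ν` killing `ν` is induced by an element fixing `ν`; (NO) no over-offender in
`B_ν`; (BS) every `1 ≠ f ∈ B_ν` inverts some `h ≠ 1` of odd order.

`one`: a minimal exact `A ≤ B_λ` with `[M, A] ∩ Λ = ∅` has order 2.
-/

set_option autoImplicit false
set_option linter.unusedSectionVars false

namespace Cfsg.Agent.Omega.NOThree.LL.One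

variable {H : Type*} {M : Type*} [Group H] [AddCommGroup M] [DistribMulAction H M]

variable (M) in
/-- `C_M(A)` -/
def cv (A : Subgroup H) : AddSubgroup M where
  carrier := {m | ∀ a ∈ A, a • m = m}
  add_mem' ha hb a h := by rw [smul_add, ha a h, hb a h]
  zero_mem' a _ := smul_zero a
  neg_mem' ha a h := by rw [smul_neg, ha a h]

theorem mem_cv {A : Subgroup H} {m : M} : m ∈ cv M A ↔ ∀ a ∈ A, a • m = m := Iff.rfl

theorem cv_anti {A B : Subgroup H} (h : A ≤ B) : cv M B ≤ cv M A := fun _ hm a ha => hm a (h ha)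

variable (M) in
/-- `[M, A]` -/
def cm (A : Subgroup H) : AddSubgroup M := AddSubgroup.closure {v | ∃ a ∈ A, ∃ m : M, a • m - m = v}

theorem sub_mem_cm {A : Subgroup H} {a : H} (ha : a ∈ A) (m : M) : a • m - m ∈ cm M A :=
  AddSubgroup.subset_closure ⟨a, ha, m, rfl⟩

theorem cm_le {A : Subgroup H} {X : AddSubgroup M} (h : ∀ a ∈ A, ∀ m : M, a • m - m ∈ X) : cm M A ≤ X := by
  unfold cm
  rw [AddSubgroup.closure_le]
  rintro v ⟨a, ha, m, rfl⟩
  exact h a ha m

theorem cm_mono {A B : Subgroup H} (h : A ≤ B) : cm M A ≤ cm M B := cm_le fun _ ha m => sub_mem_cm (h ha) m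

/-- `C_H(U) ∩ C_H(M/U)` -/
def bb (U : AddSubgroup M) : Subgroup H where
  carrier := {h | (∀ u ∈ U, h • u = u) ∧ ∀ m : M, h • m - m ∈ U}
  mul_mem' {a b} ha hb := by
    refine ⟨fun u hu => by rw [mul_smul, hb.1 u hu, ha.1 u hu], fun m => ?_⟩
    have h1 : (a * b) • m - m = a • (b • m - m) + (a • m - m) := by rw [mul_smul, smul_sub]; abel
    rw [h1, ha.1 _ (hb.2 m)]
    exact U.add_mem (hb.2 m) (ha.2 m)
  one_mem' := ⟨fun u _ => one_smul _ u, fun m => by rw [one_smul, sub_self]; exact U.zero_mem⟩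
  inv_mem' {a} ha := by
    have h0 : ∀ u ∈ U, a⁻¹ • u = u := fun u hu => by
      conv_lhs => rw [← ha.1 u hu]
      rw [inv_smul_smul]
    refine ⟨h0, fun m => ?_⟩
    have h1 : a⁻¹ • m - m = -(a⁻¹ • (a • m - m)) := by rw [smul_sub, inv_smul_smul]; abel
    rw [h1, h0 _ (ha.2 m)]
    exact U.neg_mem (ha.2 m)

theorem mem_bb {U : AddSubgroup M} {h : H} : h ∈ (bb U : Subgroup H) ↔ (∀ u ∈ U, h • u = u) ∧ ∀ m : M, h • m - m ∈ U :=
  Iff.rfl

theorem bb_fix {U : AddSubgroup M} {h : H} (hh : h ∈ (bb U : Subgroup H)) {u : M} (hu : u ∈ U) : h • u = u := hh.1 u hu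

theorem bb_sub {U : AddSubgroup M} {h : H} (hh : h ∈ (bb U : Subgroup H)) (m : M) : h • m - m ∈ U := hh.2 m

/-- additivity of `a ↦ a m - m` on `bb U` -/
theorem sub_mul {U : AddSubgroup M} {a b : H} (ha : a ∈ (bb U : Subgroup H)) (hb : b ∈ (bb U : Subgroup H)) (m : M) :
    (a * b) • m - m = (a • m - m) + (b • m - m) := by
  have h1 : (a * b) • m - m = a • (b • m - m) + (a • m - m) := by rw [mul_smul, smul_sub]; abel
  rw [h1, ha.1 _ (hb.2 m), add_comm]

theorem le_cv_of_le_bb {U : AddSubgroup M} {A : Subgroup H} (h : A ≤ bb U) : U ≤ cv M A := fun _ hu _ ha =>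
  bb_fix (h ha) hu

theorem cm_le_of_le_bb {U : AddSubgroup M} {A : Subgroup H} (h : A ≤ bb U) : cm M A ≤ U := cm_le fun _ ha m =>
  bb_sub (h ha) m

/-- `[m, A]` for `A ≤ bb U` -/
def cs (U : AddSubgroup M) (m : M) (A : Subgroup H) (h : A ≤ bb U) : AddSubgroup M where
  carrier := {v | ∃ a ∈ A, a • m - m = v}
  add_mem' := by
    rintro _ _ ⟨a, ha, rfl⟩ ⟨b, hb, rfl⟩
    exact ⟨a * b, A.mul_mem ha hb, sub_mul (h ha) (h hb) m⟩
  zero_mem' := ⟨1, A.one_mem, by rw [one_smul, sub_self]⟩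
  neg_mem' := by
    rintro _ ⟨a, ha, rfl⟩
    refine ⟨a⁻¹, A.inv_mem ha, ?_⟩
    have h1 := sub_mul (h (A.inv_mem ha)) (h ha) m
    rw [inv_mul_cancel, one_smul, sub_self] at h1
    exact eq_neg_of_add_eq_zero_left h1.symm

theorem mem_cs {U : AddSubgroup M} {m : M} {A : Subgroup H} {h : A ≤ bb U} {v : M} :
    v ∈ cs U m A h ↔ ∃ a ∈ A, a • m - m = v := Iff.rfl

theorem cs_le_cm {U : AddSubgroup M} {m : M} {A : Subgroup H} {h : A ≤ bb U} : cs U m A h ≤ cm M A := by
  rintro _ ⟨a, ha, rfl⟩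
  exact sub_mem_cm ha m

theorem cs_le {U : AddSubgroup M} {m : M} {A : Subgroup H} {h : A ≤ bb U} : cs U m A h ≤ U := by
  rintro _ ⟨a, ha, rfl⟩
  exact bb_sub (h ha) m

/-- `C_A(m)` -/
def ca (m : M) (A : Subgroup H) : Subgroup H := A ⊓ MulAction.stabilizer H m

theorem mem_ca {m : M} {A : Subgroup H} {a : H} : a ∈ ca m A ↔ a ∈ A ∧ a • m = m := Iff.rfl

theorem card_cs {U : AddSubgroup M} {m : M} {A : Subgroup H} (h : A ≤ bb U) :
    Nat.card A = Nat.card (ca m A) * Nat.card (cs U m A h) := by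
  let f : A →* Multiplicative M :=
    { toFun := fun a => Multiplicative.ofAdd ((a : H) • m - m)
      map_one' := by simp
      map_mul' := fun a b => by
        rw [← ofAdd_add, ← sub_mul (h a.2) (h b.2) m]
        rfl }
  have h1 : Nat.card A = Nat.card f.ker * Nat.card f.range := by
    rw [← Subgroup.index_ker, Subgroup.card_mul_index]
  have h2 : Nat.card f.ker = Nat.card (ca m A) := by
    refine Nat.card_congr
      { toFun := fun x => ⟨(x : A), ⟨(x : A).2, ?_⟩⟩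
        invFun := fun x => ⟨⟨x, x.2.1⟩, ?_⟩
        left_inv := fun x => rfl
        right_inv := fun x => rfl }
    · have := x.2
      rw [MonoidHom.mem_ker] at this
      have h3 : (((x : A) : H) • m - m : M) = 0 := this
      exact sub_eq_zero.1 h3
    · rw [MonoidHom.mem_ker]
      have h3 : (x : H) • m - m = 0 := sub_eq_zero.2 x.2.2
      exact h3
  have h3 : Nat.card f.range = Nat.card (cs U m A h) := by
    refine Nat.card_congr
      { toFun := fun x => ⟨Multiplicative.toAdd (x : Multiplicative M), ?_⟩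
        invFun := fun x => ⟨Multiplicative.ofAdd (x : M), ?_⟩
        left_inv := fun x => rfl
        right_inv := fun x => rfl }
    · obtain ⟨a, ha⟩ := x.2
      exact ⟨a, a.2, by rw [← ha]; rfl⟩
    · obtain ⟨a, ha, h4⟩ := x.2
      exact ⟨⟨a, ha⟩, by rw [← h4]; rfl⟩
  rw [h1, h2, h3]

theorem card_mul_relIndex {X Y : AddSubgroup M} (h : X ≤ Y) : Nat.card X * X.relIndex Y = Nat.card Y := by
  have h1 := AddSubgroup.relIndex_mul_relIndex ⊥ X Y bot_le h
  rwa [AddSubgroup.relIndex_bot_left, AddSubgroup.relIndex_bot_left] at h1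

theorem card_sup_inf (X Y : AddSubgroup M) :
    Nat.card (X ⊔ Y : AddSubgroup M) * Nat.card (X ⊓ Y : AddSubgroup M) = Nat.card X * Nat.card Y := by
  have h1 : Nat.card Y * Y.relIndex X = Nat.card (X ⊔ Y : AddSubgroup M) := by
    rw [← AddSubgroup.relIndex_sup_right]
    exact card_mul_relIndex le_sup_right
  have h2 : Nat.card (X ⊓ Y : AddSubgroup M) * Y.relIndex X = Nat.card X := by
    rw [← AddSubgroup.inf_relIndex_left]
    exact card_mul_relIndex inf_le_left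
  rw [← h1, ← h2]
  ring

theorem card_sup_of_disj {X Y : AddSubgroup M} (h : X ⊓ Y = ⊥) :
    Nat.card (X ⊔ Y : AddSubgroup M) = Nat.card X * Nat.card Y := by
  have h1 := card_sup_inf X Y
  rwa [h, AddSubgroup.card_bot, mul_one] at h1

theorem card_le [Finite M] {X Y : AddSubgroup M} (h : X ≤ Y) : Nat.card X ≤ Nat.card Y :=
  Nat.card_le_card_of_injective (AddSubgroup.inclusion h) (AddSubgroup.inclusion_injective h)

theorem eq_of_card_le [Finite M] {X Y : AddSubgroup M} (h : X ≤ Y) (h2 : Nat.card Y ≤ Nat.card X) : X = Y :=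
  AddSubgroup.eq_of_le_of_card_ge h h2

/-! ### Functionals -/

/-- the linear functionals separate points from subgroups -/
theorem exists_fun [Finite M] (two : ∀ m : M, m + m = 0) {X : AddSubgroup M} {r : M} (hr : r ∉ X) :
    ∃ φ : M →+ ZMod 2, (∀ x ∈ X, φ x = 0) ∧ φ r = 1 := by
  let _ : Module (ZMod 2) M := AddCommGroup.zmodModule (n := 2) (fun m => by rw [two_nsmul]; exact two m)
  have hr' : r ∉ AddSubgroup.toZModSubmodule 2 X := hr
  obtain ⟨f, h1, h2⟩ := Submodule.exists_le_ker_of_notMem hr'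
  refine ⟨f.toAddMonoidHom, fun x hx => h2 (show x ∈ AddSubgroup.toZModSubmodule 2 X from hx), ?_⟩
  change f r = 1
  generalize f r = z at h1
  revert z
  decide

/-! ### The system -/

variable (H) in
/-- The setting of THEOREM ONE. -/
structure Sys [Finite H] [Finite M] (Lam : Set M) (U : M → AddSubgroup M) : Prop where
  two : ∀ m : M, m + m = 0
  faith : ∀ h : H, (∀ m : M, h • m = m) → h = 1
  ne : (0 : M) ∉ Lam
  smul : ∀ (h : H) {ν : M}, ν ∈ Lam → h • ν ∈ Lam
  mem : ∀ {ν : M}, ν ∈ Lam → ν ∈ U ν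
  conj : ∀ (h : H) {ν u : M}, ν ∈ Lam → u ∈ U ν → h • u ∈ U (h • ν)
  /-- (F2') -/
  f2 : ∀ {ν : M}, ν ∈ Lam → ∀ φ : M →+ ZMod 2, φ ν = 0 →
    ∃ k : H, k • ν = ν ∧ ∀ u ∈ U ν, (φ u = 0 → k • u = u) ∧ (φ u ≠ 0 → k • u = u + ν)
  /-- (NO) -/
  no : ∀ {ν : M}, ν ∈ Lam → ∀ A : Subgroup H, A ≤ bb (U ν) → Nat.card A * Nat.card (cv M A) ≤ Nat.card M
  /-- Baer-Suzuki -/
  bs : ∀ {ν : M}, ν ∈ Lam → ∀ f : H, f ∈ (bb (U ν) : Subgroup H) → f ≠ 1 →
    ∃ h : H, h ≠ 1 ∧ Odd (orderOf h) ∧ f * h * f⁻¹ = h⁻¹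

theorem pow_of_sq {h : H} (ho : Odd (orderOf h)) : ∃ k : ℕ, (h * h) ^ k = h := by
  obtain ⟨k, hk⟩ := ho
  refine ⟨k + 1, ?_⟩
  rw [← pow_two, ← pow_mul, show 2 * (k + 1) = (2 * k + 1) + 1 by ring, pow_succ, ← hk, pow_orderOf_eq_one, one_mul]

theorem mem_of_sq {h : H} (ho : Odd (orderOf h)) {T : Subgroup H} (hT : h * h ∈ T) : h ∈ T := by
  obtain ⟨k, hk⟩ := pow_of_sq ho
  rw [← hk]
  exact T.pow_mem hT k

theorem fix_of_sq {h : H} (ho : Odd (orderOf h)) {m : M} (hm : (h * h) • m = m) : h • m = m :=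
  mem_of_sq (T := MulAction.stabilizer H m) ho hm

theorem inv_smul_fix {h : H} {m : M} (hm : h • m = m) : h⁻¹ • m = m := by
  rw [inv_smul_eq_iff, hm]

namespace Sys

variable [Finite H] [Finite M] {Lam : Set M} {U : M → AddSubgroup M} {lam mu : M} {A : Subgroup H} {f h : H}

include H in
theorem conj_iff (s : Sys H Lam U) (h : H) {ν u : M} (hν : ν ∈ Lam) : h • u ∈ U (h • ν) ↔ u ∈ U ν := by
  refine ⟨fun hu => ?_, fun hu => s.conj h hν hu⟩
  have h1 := s.conj h⁻¹ (s.smul h hν) hu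
  rwa [inv_smul_smul, inv_smul_smul] at h1

include H in
theorem mem_smul (s : Sys H Lam U) (h : H) {ν u : M} (hν : ν ∈ Lam) (hu : u ∈ U (h • ν)) : h⁻¹ • u ∈ U ν := by
  have h1 := s.conj h⁻¹ (s.smul h hν) hu
  rwa [inv_smul_smul] at h1

theorem sq (s : Sys H Lam U) {X : AddSubgroup M} {b : H} (hb : b ∈ (bb X : Subgroup H)) : b * b = 1 := by
  refine s.faith _ fun m => ?_
  have h1 := sub_mul hb hb m
  rw [s.two] at h1
  exact sub_eq_zero.1 h1

theorem inv_eq (s : Sys H Lam U) {X : AddSubgroup M} {b : H} (hb : b ∈ (bb X : Subgroup H)) : b⁻¹ = b :=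
  inv_eq_of_mul_eq_one_left (s.sq hb)

theorem comm (s : Sys H Lam U) {X : AddSubgroup M} {a b : H} (ha : a ∈ (bb X : Subgroup H))
    (hb : b ∈ (bb X : Subgroup H)) : a * b = b * a := by
  have h1 := s.sq ((bb X).mul_mem ha hb)
  have h2 : a * b = (a * b)⁻¹ := (inv_eq_of_mul_eq_one_left h1).symm
  rw [mul_inv_rev, s.inv_eq ha, s.inv_eq hb] at h2
  exact h2

theorem sub_eq (s : Sys H Lam U) (a b : M) : a - b = a + b := by
  rw [sub_eq_iff_eq_add, add_assoc, s.two, add_zero]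

theorem neg_eq (s : Sys H Lam U) (a : M) : -a = a := neg_eq_of_add_eq_zero_left (s.two a)

theorem bb_conj (s : Sys H Lam U) (g : H) {ν : M} (hν : ν ∈ Lam) {b : H} (hb : b ∈ (bb (U ν) : Subgroup H)) :
    g * b * g⁻¹ ∈ (bb (U (g • ν)) : Subgroup H) := by
  refine ⟨fun u hu => ?_, fun m => ?_⟩
  · rw [mul_smul, mul_smul, bb_fix hb (s.mem_smul g hν hu), smul_inv_smul]
  · have h1 := s.conj g hν (bb_sub hb (g⁻¹ • m))
    rwa [smul_sub, smul_inv_smul, ← mul_smul, ← mul_smul] at h1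

theorem bb_conj' (s : Sys H Lam U) (g : H) {ν : M} (hν : ν ∈ Lam) {b : H}
    (hb : b ∈ (bb (U (g • ν)) : Subgroup H)) : g⁻¹ * b * g ∈ (bb (U ν) : Subgroup H) := by
  have h1 := s.bb_conj g⁻¹ (s.smul g hν) hb
  rwa [inv_smul_smul, inv_inv] at h1

/-- (COLL) -/
theorem coll (s : Sys H Lam U) {ν : M} (hμ : mu ∈ Lam) (hν : ν ∈ Lam) (h1 : ν ∈ U mu) (h2 : ν ≠ mu) :
    ν + mu ∈ Lam := by
  have h3 : ν ∉ AddSubgroup.zmultiples mu := by
    intro h4
    rw [AddSubgroup.mem_zmultiples_iff] at h4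
    obtain ⟨k, hk⟩ := h4
    rcases Int.even_or_odd' k with ⟨c, hc | hc⟩
    · rw [hc, mul_comm, mul_smul, two_smul, s.two, smul_zero] at hk
      exact s.ne (hk ▸ hν)
    · rw [hc, add_smul, mul_comm, mul_smul, two_smul, s.two, smul_zero, zero_add, one_smul] at hk
      exact h2 hk.symm
  obtain ⟨φ, h4, h5⟩ := exists_fun s.two h3
  obtain ⟨k, -, h6⟩ := s.f2 hμ φ (h4 _ (AddSubgroup.mem_zmultiples mu))
  rw [← (h6 ν h1).2 (by rw [h5]; decide)]
  exact s.smul k hν

end Sys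

/-- `f ∈ B_λ#` inverts `h ≠ 1` of odd order. -/
structure Mv [Finite H] [Finite M] (Lam : Set M) (U : M → AddSubgroup M) (lam : M) (f h : H) : Prop where
  hl : lam ∈ Lam
  hf : f ∈ (bb (U lam) : Subgroup H)
  hf1 : f ≠ 1
  hh : h ≠ 1
  odd : Odd (orderOf h)
  inv : f * h * f⁻¹ = h⁻¹

namespace Mv

variable [Finite H] [Finite M] {Lam : Set M} {U : M → AddSubgroup M} {lam : M} {A : Subgroup H} {f h : H}

theorem fh (v : Mv Lam U lam f h) : f * h = h⁻¹ * f := by rw [← v.inv, inv_mul_cancel_right]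

theorem fh' (v : Mv Lam U lam f h) : f * h⁻¹ = h * f := by
  have h1 := congrArg (·⁻¹) v.inv
  simp only [mul_inv_rev, inv_inv] at h1
  calc f * h⁻¹ = f * (h⁻¹ * f⁻¹) * f := by group
    _ = h * f := by rw [h1]

/-- `h f h⁻¹ = h² f` -/
theorem g_eq (v : Mv Lam U lam f h) : h * f * h⁻¹ = h * h * f := by
  rw [mul_assoc, v.fh', mul_assoc]

theorem mu (s : Sys H Lam U) (v : Mv Lam U lam f h) : h • lam ∈ Lam := s.smul h v.hl

theorem g_mem (s : Sys H Lam U) (v : Mv Lam U lam f h) : h * h * f ∈ (bb (U (h • lam)) : Subgroup H) := by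
  rw [← v.g_eq]
  exact s.bb_conj h v.hl v.hf

theorem hmov (s : Sys H Lam U) (v : Mv Lam U lam f h) : h • lam ≠ lam := by
  intro h1
  have h2 := v.g_mem s
  rw [h1] at h2
  have h3 : h * h ∈ (bb (U lam) : Subgroup H) := by
    have := (bb (U lam)).mul_mem h2 ((bb (U lam)).inv_mem v.hf)
    rwa [mul_inv_cancel_right] at this
  have h4 : h * h = 1 := s.sq (mem_of_sq v.odd h3)
  exact v.hh (Subgroup.mem_bot.1 (mem_of_sq v.odd (T := ⊥) (Subgroup.mem_bot.2 h4)))

theorem fmov (s : Sys H Lam U) (v : Mv Lam U lam f h) : f • h • lam ≠ h • lam := by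
  intro h1
  rw [← mul_smul, v.fh, mul_smul, bb_fix v.hf (s.mem v.hl), inv_smul_eq_iff, ← mul_smul] at h1
  exact v.hmov s (fix_of_sq v.odd h1.symm)

theorem fix (s : Sys H Lam U) (v : Mv Lam U lam f h) {u : M} (hu : u ∈ U (h • lam)) (hf : f • u = u) :
    h • u = u ∧ u ∈ U lam := by
  have h1 := bb_fix (v.g_mem s) hu
  rw [mul_smul, hf] at h1
  have h2 := fix_of_sq v.odd h1
  refine ⟨h2, ?_⟩
  have h3 := s.mem_smul h v.hl hu
  rwa [inv_smul_fix h2] at h3

theorem hD (s : Sys H Lam U) (v : Mv Lam U lam f h) {u : M} (hu : u ∈ U lam ⊓ U (h • lam)) : h • u = u :=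
  (v.fix s hu.2 (bb_fix v.hf hu.1)).1

theorem lam_notMem (s : Sys H Lam U) (v : Mv Lam U lam f h) : lam ∉ U lam ⊓ U (h • lam) := fun h1 =>
  v.hmov s (v.hD s h1)

theorem f'_lam (s : Sys H Lam U) (v : Mv Lam U lam f h) : (h * f) • lam = h • lam := by
  rw [mul_smul, bb_fix v.hf (s.mem v.hl)]

theorem f'_mu (s : Sys H Lam U) (v : Mv Lam U lam f h) : (h * f) • h • lam = lam := by
  rw [← mul_smul, mul_assoc, v.fh, mul_smul, mul_smul, smul_inv_smul, bb_fix v.hf (s.mem v.hl)]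

theorem f'_D (s : Sys H Lam U) (v : Mv Lam U lam f h) {u : M} (hu : u ∈ U lam ⊓ U (h • lam)) : (h * f) • u = u := by
  rw [mul_smul, bb_fix v.hf hu.1, v.hD s hu]

/-- `f'` is trivial on `M / (U_λ + U_μ)` -/
theorem f'_sub (s : Sys H Lam U) (v : Mv Lam U lam f h) {W : AddSubgroup M} (h1 : U lam ≤ W) (h2 : U (h • lam) ≤ W)
    (m : M) : (h * f) • m - m ∈ W := by
  let T : Submonoid H :=
    { carrier := {t | ∀ m : M, t • m - m ∈ W}
      mul_mem' := by
        intro a b ha hb m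
        have h3 : (a * b) • m - m = (a • (b • m - m) - (b • m - m)) + (b • m - m) + (a • m - m) := by
          rw [mul_smul, smul_sub]
          abel
        rw [h3]
        exact W.add_mem (W.add_mem (ha _) (hb _)) (ha _)
      one_mem' := fun m => by rw [one_smul, sub_self]; exact W.zero_mem }
  have h3 : f ∈ T := fun m => h1 (bb_sub v.hf m)
  have h4 : h * h * f ∈ T := fun m => h2 (bb_sub (v.g_mem s) m)
  have h5 : h * h ∈ T := by
    have := T.mul_mem h4 h3
    rwa [mul_assoc, s.sq v.hf, mul_one] at this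
  have h6 : h ∈ T := by
    obtain ⟨k, hk⟩ := pow_of_sq v.odd
    rw [← hk]
    exact T.pow_mem h5 k
  exact T.mul_mem h6 h3 m

/-- (2)(i) -/
theorem two_i (s : Sys H Lam U) (v : Mv Lam U lam f h) {T : AddSubgroup M}
    (hT : ∀ r ∈ T, r ∈ U lam ⊓ U (h • lam) → r ∉ Lam) {e : H} (he : ∀ m : M, e • m - m ∈ T)
    (h1 : e • h • lam - h • lam ∈ U lam ⊓ U (h • lam)) : e • h • lam = h • lam := by
  by_contra h2
  have h3 : e • h • lam ∈ U (h • lam) := by
    have := (U (h • lam)).add_mem h1.2 (s.mem (v.mu s))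
    rwa [sub_add_cancel] at this
  have h4 := s.coll (v.mu s) (s.smul e (v.mu s)) h3 h2
  rw [← s.sub_eq] at h4
  exact hT _ (he _) h1 h4

/-- (2)(ii) -/
theorem two_ii (s : Sys H Lam U) (v : Mv Lam U lam f h) {T : AddSubgroup M}
    (hT : ∀ r ∈ T, r ∈ U lam ⊓ U (h • lam) → r ∉ Lam) {b : H} (hb : b ∈ (bb (U lam) : Subgroup H))
    (hb' : ∀ m : M, b • m - m ∈ T) (hm : b • h • lam = h • lam) {g : H} (hg : g ∈ (bb (U (h • lam)) : Subgroup H)) :
    b • (g • lam - lam) = g • lam - lam := by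
  have h0 := v.mu s
  have hl : b • lam = lam := bb_fix hb (s.mem v.hl)
  have h1 : g • lam - lam ∈ U (h • lam) := bb_sub hg lam
  have h2 : b • (g • lam - lam) ∈ U (h • lam) := by
    have := s.conj b h0 h1
    rwa [hm] at this
  have h3 : b • (g • lam - lam) - (g • lam - lam) ∈ U lam ⊓ U (h • lam) :=
    ⟨bb_sub hb _, (U (h • lam)).sub_mem h2 h1⟩
  have h4 : b • g • lam = g • lam + (b • (g • lam - lam) - (g • lam - lam)) := by
    rw [smul_sub, hl]
    abel
  by_contra h5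
  have h6 : b • (g • lam - lam) - (g • lam - lam) ∈ U (g • lam) := by
    have := s.conj g v.hl h3.1
    rwa [bb_fix hg h3.2] at this
  have h7 : b • g • lam ∈ U (g • lam) := by
    rw [h4]
    exact (U (g • lam)).add_mem (s.mem (s.smul g v.hl)) h6
  have h8 : b • g • lam ≠ g • lam := by
    intro h9
    rw [h9] at h4
    exact h5 (sub_eq_zero.1 (left_eq_add.1 h4))
  have h9 := s.coll (s.smul g v.hl) (s.smul b (s.smul g v.hl)) h7 h8
  have h10 : b • g • lam + g • lam = b • (g • lam - lam) - (g • lam - lam) := by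
    rw [h4, add_comm, ← add_assoc, s.two, zero_add]
  rw [h10] at h9
  exact hT _ (hb' _) h3 h9

end Mv

/-- minimal exact subgroups of `B_λ` -/
structure ME [Finite H] [Finite M] (U : M → AddSubgroup M) (lam : M) (A : Subgroup H) : Prop where
  le : A ≤ bb (U lam)
  ne : A ≠ ⊥
  ex : Nat.card A * Nat.card (cv M A) = Nat.card M
  min : ∀ B : Subgroup H, B ≤ A → B ≠ ⊥ → B ≠ A → Nat.card B * Nat.card (cv M B) < Nat.card M

/-- The setting: `A` minimal exact, no line vector in `[M, A]`, `f ∈ A#`. -/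
structure Fx [Finite H] [Finite M] (Lam : Set M) (U : M → AddSubgroup M) (lam : M) (A : Subgroup H) (f h : H) :
    Prop where
  s : Sys H Lam U
  me : ME U lam A
  v : Mv Lam U lam f h
  fA : f ∈ A
  free : ∀ r ∈ cm M A, r ∉ Lam

namespace Fx

variable [Finite H] [Finite M] {Lam : Set M} {U : M → AddSubgroup M} {lam : M} {A : Subgroup H} {f h : H}

theorem cvD (x : Fx Lam U lam A f h) : U (h • lam) ⊓ cv M A = U lam ⊓ U (h • lam) := by
  refine le_antisymm ?_ ?_
  · rintro u ⟨h1, h2⟩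
    exact ⟨(x.v.fix x.s h1 (h2 f x.fA)).2, h1⟩
  · rintro u ⟨h1, h2⟩
    exact ⟨h2, le_cv_of_le_bb x.me.le h1⟩

theorem card_U (x : Fx Lam U lam A f h) : Nat.card (U (h • lam)) = Nat.card (U lam) := by
  refine Nat.card_congr
    { toFun := fun u => ⟨h⁻¹ • (u : M), x.s.mem_smul h x.v.hl u.2⟩
      invFun := fun u => ⟨h • (u : M), x.s.conj h x.v.hl u.2⟩
      left_inv := fun u => Subtype.ext (smul_inv_smul h (u : M))
      right_inv := fun u => Subtype.ext (inv_smul_smul h (u : M)) }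

/-- (2)(i): `[μ, A] ∩ D = 0` -/
theorem disj (x : Fx Lam U lam A f h) : cs (U lam) (h • lam) A x.me.le ⊓ (U lam ⊓ U (h • lam)) = ⊥ := by
  rw [eq_bot_iff]
  rintro u ⟨⟨a, ha, rfl⟩, h2⟩
  rw [AddSubgroup.mem_bot, sub_eq_zero]
  exact x.v.two_i x.s (T := cm M A) (fun r hr _ => x.free r hr) (fun m => sub_mem_cm ha m) h2

theorem f_notMem (x : Fx Lam U lam A f h) : f ∉ ca (h • lam) A := fun h1 => x.v.fmov x.s h1.2

theorem card_eq_of_smul (g : H) {X Y : AddSubgroup M} (h1 : ∀ u ∈ X, g • u ∈ Y) (h2 : ∀ u ∈ Y, g⁻¹ • u ∈ X) :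
    Nat.card X = Nat.card Y :=
  Nat.card_congr
    { toFun := fun u => ⟨g • (u : M), h1 u u.2⟩
      invFun := fun u => ⟨g⁻¹ • (u : M), h2 u u.2⟩
      left_inv := fun u => Subtype.ext (inv_smul_smul g (u : M))
      right_inv := fun u => Subtype.ext (smul_inv_smul g (u : M)) }

theorem smul_sub_conj (g a : H) (m : M) : g • (a • m - m) = (g * a * g⁻¹) • g • m - g • m := by
  rw [smul_sub, ← mul_smul, ← mul_smul, inv_mul_cancel_right, mul_smul]

theorem f'_sq (s : Sys H Lam U) (v : Mv Lam U lam f h) : (h * f)⁻¹ = h * f := by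
  rw [mul_inv_rev, s.inv_eq v.hf, v.fh']

theorem card_Z (s : Sys H Lam U) (v : Mv Lam U lam f h) :
    Nat.card (cs (U lam) (h • lam) (bb (U lam) : Subgroup H) le_rfl ⊔ (U lam ⊓ U (h • lam)) : AddSubgroup M) =
      Nat.card (cs (U (h • lam)) lam (bb (U (h • lam)) : Subgroup H) le_rfl ⊔ (U lam ⊓ U (h • lam)) :
        AddSubgroup M) := by
  refine card_eq_of_smul (h * f) (fun u hu => ?_) (fun u hu => ?_)
  · rw [AddSubgroup.mem_sup] at hu ⊢
    obtain ⟨_, ⟨b, hb, rfl⟩, d, hd, rfl⟩ := hu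
    refine ⟨_, ⟨(h * f) * b * (h * f)⁻¹, ?_, rfl⟩, d, hd, ?_⟩
    · have := s.bb_conj (h * f) v.hl hb
      rwa [v.f'_lam s] at this
    · rw [smul_add, smul_sub_conj, v.f'_mu s, v.f'_D s hd]
  · rw [f'_sq s v]
    rw [AddSubgroup.mem_sup] at hu ⊢
    obtain ⟨_, ⟨b, hb, rfl⟩, d, hd, rfl⟩ := hu
    refine ⟨_, ⟨(h * f) * b * (h * f)⁻¹, ?_, rfl⟩, d, hd, ?_⟩
    · have := s.bb_conj (h * f) (v.mu s) hb
      rwa [v.f'_mu s] at this
    · rw [smul_add, smul_sub_conj, v.f'_lam s, v.f'_D s hd]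

/-- (2): REG -/
theorem ca_eq_bot (x : Fx Lam U lam A f h) : ca (h • lam) A = ⊥ := by
  by_contra hP
  have s := x.s
  have hP' : ca (h • lam) A ≠ A := fun h1 => x.f_notMem (by rw [h1]; exact x.fA)
  have h1 := x.me.min (ca (h • lam) A) inf_le_left hP hP'
  have h2 := card_cs (m := h • lam) x.me.le
  have h3 := card_Z s x.v
  have h4 : Nat.card (cs (U lam) (h • lam) A x.me.le) * Nat.card (U lam ⊓ U (h • lam) : AddSubgroup M) ≤
      Nat.card (cs (U (h • lam)) lam (bb (U (h • lam)) : Subgroup H) le_rfl ⊔ (U lam ⊓ U (h • lam)) :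
        AddSubgroup M) := by
    rw [← h3, ← card_sup_of_disj x.disj]
    exact card_le (sup_le_sup_right (fun u hu => by
      obtain ⟨a, ha, h5⟩ := hu
      exact ⟨a, x.me.le ha, h5⟩) _)
  have h5 : cs (U (h • lam)) lam (bb (U (h • lam)) : Subgroup H) le_rfl ⊔ (U lam ⊓ U (h • lam)) ≤
      cv M (ca (h • lam) A) := by
    refine sup_le ?_ fun u hu a ha => bb_fix (x.me.le ha.1) hu.1
    rintro _ ⟨g, hg, rfl⟩ b hb
    exact x.v.two_ii s (T := cm M A) (fun r hr _ => x.free r hr) (x.me.le hb.1) (fun m => sub_mem_cm hb.1 m) hb.2 hg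
  have h6 : (cs (U (h • lam)) lam (bb (U (h • lam)) : Subgroup H) le_rfl ⊔ (U lam ⊓ U (h • lam))) ⊓ cv M A =
      U lam ⊓ U (h • lam) := by
    refine le_antisymm ?_ (le_inf le_sup_right (le_trans inf_le_left (le_cv_of_le_bb x.me.le)))
    conv_rhs => rw [← x.cvD]
    exact inf_le_inf_right _ (sup_le cs_le inf_le_right)
  have h7 := card_sup_inf (cs (U (h • lam)) lam (bb (U (h • lam)) : Subgroup H) le_rfl ⊔ (U lam ⊓ U (h • lam)))
    (cv M A)
  rw [h6] at h7
  have h8 := card_le (sup_le h5 (cv_anti (M := M) (inf_le_left : ca (h • lam) A ≤ A)))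
  have h9 := x.me.ex
  have hd : 0 < Nat.card (U lam ⊓ U (h • lam) : AddSubgroup M) := Nat.card_pos
  rw [h2] at h9
  rw [← h9] at h1
  clear h2 h3 h5 h6 h9 hP hP'
  generalize Nat.card (U lam ⊓ U (h • lam) : AddSubgroup M) = d at *
  generalize Nat.card (ca (h • lam) A) = p at *
  generalize Nat.card (cv M (ca (h • lam) A)) = t at *
  generalize Nat.card (cs (U lam) (h • lam) A x.me.le) = a at *
  generalize Nat.card ((cs (U (h • lam)) lam (bb (U (h • lam)) : Subgroup H) le_rfl ⊔ (U lam ⊓ U (h • lam))) ⊔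
    cv M A : AddSubgroup M) = w at *
  generalize Nat.card (cs (U (h • lam)) lam (bb (U (h • lam)) : Subgroup H) le_rfl ⊔ (U lam ⊓ U (h • lam)) :
    AddSubgroup M) = z at *
  generalize Nat.card (cv M A) = c at *
  -- p * t < p * a * c, a * d ≤ z, w * d = z * c, w ≤ t
  have k1 : p * (a * d) * c ≤ p * z * c := Nat.mul_le_mul_right _ (Nat.mul_le_mul_left _ h4)
  have k2 : p * z * c ≤ p * (t * d) := by
    rw [mul_assoc, ← h7]
    exact Nat.mul_le_mul_left _ (Nat.mul_le_mul_right _ h8)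
  have k3 : p * t * d < p * a * c * d := Nat.mul_lt_mul_of_pos_right h1 hd
  have k4 : p * (a * d) * c = p * a * c * d := by ring
  have k5 : p * (t * d) = p * t * d := by ring
  omega

/-- the three cardinalities of (2) -/
theorem card_A (x : Fx Lam U lam A f h) :
    Nat.card A * Nat.card (U lam ⊓ U (h • lam) : AddSubgroup M) = Nat.card (U lam) ∧
      cs (U lam) (h • lam) A x.me.le ⊔ (U lam ⊓ U (h • lam)) = U lam ∧ U (h • lam) ⊔ cv M A = ⊤ ∧
      Nat.card (cs (U lam) (h • lam) A x.me.le) = Nat.card A := by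
  have h1 := card_cs (m := h • lam) x.me.le
  rw [x.ca_eq_bot, Subgroup.card_bot, one_mul] at h1
  have h2 := card_sup_of_disj x.disj
  have h3 := card_sup_inf (U (h • lam)) (cv M A)
  rw [x.cvD, x.card_U] at h3
  have h4 : cs (U lam) (h • lam) A x.me.le ⊔ (U lam ⊓ U (h • lam)) ≤ U lam := sup_le cs_le inf_le_left
  have h5 := card_le h4
  have h6 : Nat.card (U (h • lam) ⊔ cv M A : AddSubgroup M) ≤ Nat.card M :=
    Nat.card_le_card_of_injective _ Subtype.val_injective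
  have h7 := x.me.ex
  have hd : 0 < Nat.card (U lam ⊓ U (h • lam) : AddSubgroup M) := Nat.card_pos
  have hc : 0 < Nat.card (cv M A) := Nat.card_pos
  rw [h2, ← h1] at h5
  rw [← h1] at h2
  have h8 : Nat.card (U lam) * Nat.card (cv M A) ≤
      Nat.card A * Nat.card (U lam ⊓ U (h • lam) : AddSubgroup M) * Nat.card (cv M A) := by
    rw [← h3, mul_right_comm, h7]
    exact Nat.mul_le_mul_right _ h6
  have h9 := le_antisymm h5 (Nat.le_of_mul_le_mul_right h8 hc)
  refine ⟨h9, eq_of_card_le h4 (by rw [h2, h9]), ?_, h1.symm⟩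
  refine AddSubgroup.eq_top_of_le_card _ ?_
  have h10 : Nat.card M * Nat.card (U lam ⊓ U (h • lam) : AddSubgroup M) ≤
      Nat.card (U (h • lam) ⊔ cv M A : AddSubgroup M) * Nat.card (U lam ⊓ U (h • lam) : AddSubgroup M) := by
    rw [h3, ← h9, ← h7]
    exact le_of_eq (by ring)
  exact Nat.le_of_mul_le_mul_right h10 hd

end Fx

/-! ### (1), (3) -/

section

variable [Finite H] [Finite M] {Lam : Set M} {U : M → AddSubgroup M} {lam : M} {A : Subgroup H}

theorem mem_zm (s : Sys H Lam U) {m x : M} (hx : x ∈ AddSubgroup.zmultiples m) : x = 0 ∨ x = m := by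
  rw [AddSubgroup.mem_zmultiples_iff] at hx
  obtain ⟨k, hk⟩ := hx
  rcases Int.even_or_odd' k with ⟨c, hc | hc⟩
  · left
    rw [← hk, hc, mul_comm, mul_smul, two_smul, s.two, smul_zero]
  · right
    rw [← hk, hc, add_smul, mul_comm, mul_smul, two_smul, s.two, smul_zero, zero_add, one_smul]

/-- (1) -/
theorem add_notMem (s : Sys H Lam U) (hl : lam ∈ Lam) {r : M} (hU : r ∈ U lam) (h0 : r ≠ 0) (hr : r ∉ Lam) :
    r + lam ∉ Lam := by
  intro h1
  have h2 : r ∉ AddSubgroup.zmultiples lam := by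
    intro h3
    rcases mem_zm s h3 with h4 | h4
    · exact h0 h4
    · exact hr (h4 ▸ hl)
  obtain ⟨φ, h4, h5⟩ := exists_fun s.two h2
  obtain ⟨k, -, h6⟩ := s.f2 hl φ (h4 _ (AddSubgroup.mem_zmultiples lam))
  rw [← (h6 r hU).2 (by rw [h5]; decide)] at h1
  have h7 := s.smul k⁻¹ h1
  rw [inv_smul_smul] at h7
  exact hr h7

/-- (1): `(R₁ + ⟨λ⟩) ∩ Λ = {λ}` -/
theorem eq_lam (s : Sys H Lam U) (hl : lam ∈ Lam) (hA : A ≤ bb (U lam)) (free : ∀ r ∈ cm M A, r ∉ Lam) {r : M}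
    (hr : r ∈ cm M A ⊔ AddSubgroup.zmultiples lam) (h1 : r ∈ Lam) : r = lam := by
  rw [AddSubgroup.mem_sup] at hr
  obtain ⟨x, hx, y, hy, rfl⟩ := hr
  rcases mem_zm s hy with rfl | rfl
  · rw [add_zero] at h1
    exact absurd h1 (free x hx)
  · by_cases hx0 : x = 0
    · rw [hx0, zero_add]
    · exact absurd h1 (add_notMem s hl (cm_le_of_le_bb hA hx) hx0 (free x hx))

/-- (3) -/
theorem cv_eq (s : Sys H Lam U) (hl : lam ∈ Lam) (me : ME U lam A) (free : ∀ r ∈ cm M A, r ∉ Lam) {a : H}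
    (ha : a ∈ A) (ha1 : a ≠ 1) {m : M} (hm : a • m = m) : m ∈ cv M A := by
  obtain ⟨h, h1, h2, h3⟩ := s.bs hl a (me.le ha) ha1
  have x : Fx Lam U lam A a h := ⟨s, me, ⟨hl, me.le ha, ha1, h1, h2, h3⟩, ha, free⟩
  have h4 : m ∈ U (h • lam) ⊔ cv M A := by
    rw [x.card_A.2.2.1]
    exact AddSubgroup.mem_top m
  rw [AddSubgroup.mem_sup] at h4
  obtain ⟨u, hu, c, hc, rfl⟩ := h4
  rw [smul_add, hc a ha, add_left_inj] at hm
  exact (cv M A).add_mem (le_cv_of_le_bb me.le (x.v.fix s hu hm).2) hc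

open Pointwise in
/-- `g A g⁻¹` -/
def cj (g : H) (A : Subgroup H) : Subgroup H := MulAut.conj g • A

theorem mem_cj {g : H} {A : Subgroup H} {x : H} : x ∈ cj g A ↔ g⁻¹ * x * g ∈ A := by
  unfold cj
  rw [Subgroup.mem_pointwise_smul_iff_inv_smul_mem, ← map_inv, MulAut.smul_def, MulAut.conj_apply, inv_inv]

theorem conj_mem_cj {g : H} {A : Subgroup H} {a : H} (ha : a ∈ A) : g * a * g⁻¹ ∈ cj g A := by
  rw [mem_cj, ← mul_assoc, ← mul_assoc, inv_mul_cancel, one_mul, inv_mul_cancel_right]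
  exact ha

theorem cj_mono {g : H} {A B : Subgroup H} (h : A ≤ B) : cj g A ≤ cj g B := fun _ hx => mem_cj.2 (h (mem_cj.1 hx))

open Pointwise in
theorem cj_inv (g : H) (A : Subgroup H) : cj g (cj g⁻¹ A) = A := by
  unfold cj
  rw [map_inv, smul_inv_smul]

theorem cj_bot (g : H) : cj g (⊥ : Subgroup H) = ⊥ := by
  ext x
  rw [mem_cj, Subgroup.mem_bot, Subgroup.mem_bot]
  constructor
  · intro h
    have h1 : x = g * (g⁻¹ * x * g) * g⁻¹ := by group
    rw [h1, h]
    group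
  · rintro rfl
    group

theorem card_cj (g : H) (A : Subgroup H) : Nat.card (cj g A) = Nat.card A :=
  (Nat.card_congr
    { toFun := fun a : A => (⟨g * a * g⁻¹, conj_mem_cj a.2⟩ : cj g A)
      invFun := fun x => ⟨g⁻¹ * x * g, mem_cj.1 x.2⟩
      left_inv := fun a => Subtype.ext (by simp [mul_assoc])
      right_inv := fun x => Subtype.ext (by simp [mul_assoc]) }).symm

theorem card_cv_cj (g : H) (A : Subgroup H) : Nat.card (cv M (cj g A)) = Nat.card (cv M A) := by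
  refine (Fx.card_eq_of_smul g (fun u hu => ?_) (fun u hu => ?_)).symm
  · intro x hx
    have h1 := hu _ (mem_cj.1 hx)
    rw [mul_smul, mul_smul, inv_smul_eq_iff] at h1
    exact h1
  · intro a ha
    have h1 := hu _ (conj_mem_cj (g := g) ha)
    rwa [mul_smul, mul_smul, ← eq_inv_smul_iff] at h1

theorem ME.conj (s : Sys H Lam U) (hl : lam ∈ Lam) (me : ME U lam A) {k : H} (hk : k • lam = lam) :
    ME U lam (cj k A) := by
  have hi : ∀ B : Subgroup H, cj k⁻¹ (cj k B) = B := fun B => by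
    have := cj_inv k⁻¹ B
    rwa [inv_inv] at this
  refine ⟨fun x hx => ?_, fun h => me.ne ?_, by rw [card_cj, card_cv_cj, me.ex], fun B hB h1 h2 => ?_⟩
  · have h1 := s.bb_conj k hl (me.le (mem_cj.1 hx))
    rw [hk] at h1
    have h2 : k * (k⁻¹ * x * k) * k⁻¹ = x := by group
    rwa [h2] at h1
  · rw [← hi A, h, cj_bot]
  · have h3 := me.min (cj k⁻¹ B) (by rw [← hi A]; exact cj_mono hB)
      (fun h => h1 (by rw [← cj_inv k B, h, cj_bot])) (fun h => h2 (by rw [← cj_inv k B, h]))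
    rwa [card_cj, card_cv_cj] at h3

end

namespace Fx

variable [Finite H] [Finite M] {Lam : Set M} {U : M → AddSubgroup M} {lam : M} {A : Subgroup H} {f h : H}

theorem f'_f' (s : Sys H Lam U) (v : Mv Lam U lam f h) (m : M) : (h * f) • (h * f) • m = m := by
  have h1 : (h * f) * (h * f) = 1 := by
    calc (h * f) * (h * f) = (h * f) * (h * f)⁻¹ := by rw [f'_sq s v]
      _ = 1 := mul_inv_cancel _
  rw [← mul_smul, h1, one_smul]

/-- `U_μ = [λ, B] + D`, `B = f' A f'⁻¹` -/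
theorem u_mu (x : Fx Lam U lam A f h) {u : M} (hu : u ∈ U (h • lam)) :
    ∃ a ∈ A, ∃ d ∈ U lam ⊓ U (h • lam), u = (((h * f) * a * (h * f)⁻¹) • lam - lam) + d := by
  have h1 : (h * f) • u ∈ U lam := by
    have := x.s.conj (h * f) (x.v.mu x.s) hu
    rwa [x.v.f'_mu x.s] at this
  rw [← x.card_A.2.1, AddSubgroup.mem_sup] at h1
  obtain ⟨_, ⟨a, ha, rfl⟩, d, hd, h2⟩ := h1
  refine ⟨a, ha, d, hd, ?_⟩
  have h3 : u = (h * f) • (h * f) • u := (f'_f' x.s x.v u).symm
  have h4 : (h * f) • (a • h • lam - h • lam + d) = u := by rw [h2, ← h3]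
  rw [← h4, smul_add, smul_sub_conj, x.v.f'_mu x.s, x.v.f'_D x.s hd]

/-- `M = C_M(B) + U_λ` -/
theorem m_eq (x : Fx Lam U lam A f h) (m : M) : ∃ u ∈ U lam, ∃ c : M,
    (∀ a ∈ A, ((h * f) * a * (h * f)⁻¹) • c = c) ∧ m = u + c := by
  have h1 : (h * f) • m ∈ U (h • lam) ⊔ cv M A := by
    rw [x.card_A.2.2.1]
    exact AddSubgroup.mem_top _
  rw [AddSubgroup.mem_sup] at h1
  obtain ⟨u, hu, c, hc, h2⟩ := h1
  have h3 : m = (h * f) • (h * f) • m := (f'_f' x.s x.v m).symm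
  refine ⟨(h * f) • u, ?_, (h * f) • c, fun a ha => ?_, by rw [← smul_add, h2, ← h3]⟩
  · have := x.s.conj (h * f) (x.v.mu x.s) hu
    rwa [x.v.f'_mu x.s] at this
  · rw [mul_smul, inv_smul_smul, mul_smul, hc a ha]

/-- the subgroup of `bb (U λ)` of the elements with `[M, e] ≤ T` -/
def tb (s : Sys H Lam U) (lam : M) (T : AddSubgroup M) : Subgroup H where
  carrier := {e | e ∈ (bb (U lam) : Subgroup H) ∧ ∀ m : M, e • m - m ∈ T}
  mul_mem' := by
    rintro a b ⟨ha, ha'⟩ ⟨hb, hb'⟩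
    refine ⟨(bb (U lam)).mul_mem ha hb, fun m => ?_⟩
    rw [sub_mul ha hb]
    exact T.add_mem (ha' m) (hb' m)
  one_mem' := ⟨(bb (U lam)).one_mem, fun m => by rw [one_smul, sub_self]; exact T.zero_mem⟩
  inv_mem' := by
    rintro a ⟨ha, ha'⟩
    rw [s.inv_eq ha]
    exact ⟨ha, ha'⟩

/-- (4), first half: every `b ∈ A_φ` acts on `U_μ` as an element of `A`. -/
theorem four_a (x : Fx Lam U lam A f h) {φ : M →+ ZMod 2} {k : H} (hk : k • lam = lam)
    (hφ : ∀ u ∈ U lam, (φ u = 0 → k • u = u) ∧ (φ u ≠ 0 → k • u = u + lam)) {b : H} (hb : b ∈ cj k A) :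
    ∃ a ∈ A, ∀ u ∈ U (h • lam), b • u = a • u := by
  have s := x.s
  have hl := x.v.hl
  have me := x.me
  have mek := me.conj s hl hk
  let T : AddSubgroup M := cm M A ⊔ AddSubgroup.zmultiples lam
  have hT : ∀ r ∈ T, r ∈ U lam ⊓ U (h • lam) → r ∉ Lam := by
    intro r hr hD h1
    rw [eq_lam s hl me.le x.free hr h1] at hD
    exact x.v.lam_notMem s hD
  have hP : A ⊔ cj k A ≤ tb s lam T := by
    refine sup_le (fun a ha => ⟨me.le ha, fun m => le_sup_left (a := cm M A) (sub_mem_cm ha m)⟩) fun c hc =>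
      ⟨mek.le hc, fun m => ?_⟩
    have hc' := mem_cj.1 hc
    have h1 : c • m - m = k • ((k⁻¹ * c * k) • (k⁻¹ • m) - k⁻¹ • m) := by
      rw [smul_sub_conj, smul_inv_smul]
      congr 2
      group
    have h2 := sub_mem_cm hc' (k⁻¹ • m)
    rw [h1]
    have h3 := hφ _ (cm_le_of_le_bb me.le h2)
    by_cases h4 : φ ((k⁻¹ * c * k) • (k⁻¹ • m) - k⁻¹ • m) = 0
    · rw [h3.1 h4]
      exact AddSubgroup.mem_sup_left h2
    · rw [h3.2 h4]
      exact AddSubgroup.add_mem_sup h2 (AddSubgroup.mem_zmultiples lam)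
  have hPb : A ⊔ cj k A ≤ bb (U lam) := fun e he => (hP he).1
  have h1 : cs (U lam) (h • lam) (A ⊔ cj k A) hPb ⊓ (U lam ⊓ U (h • lam)) = ⊥ := by
    rw [eq_bot_iff]
    rintro u ⟨⟨a, ha, rfl⟩, h2⟩
    rw [AddSubgroup.mem_bot, sub_eq_zero]
    exact x.v.two_i s hT (hP ha).2 h2
  have h2 := card_sup_of_disj h1
  have h3 := card_le (sup_le cs_le inf_le_left : cs (U lam) (h • lam) (A ⊔ cj k A) hPb ⊔ (U lam ⊓ U (h • lam)) ≤ U lam)
  rw [h2, ← x.card_A.1] at h3
  have h4 : cs (U lam) (h • lam) A me.le ≤ cs (U lam) (h • lam) (A ⊔ cj k A) hPb := by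
    rintro _ ⟨a, ha, rfl⟩
    exact ⟨a, Subgroup.mem_sup_left ha, rfl⟩
  have h5 := eq_of_card_le h4 (by rw [x.card_A.2.2.2]; exact Nat.le_of_mul_le_mul_right h3 Nat.card_pos)
  have hb' : b ∈ A ⊔ cj k A := Subgroup.mem_sup_right hb
  have h6 : b • h • lam - h • lam ∈ cs (U lam) (h • lam) A me.le := by
    rw [h5]
    exact ⟨b, hb', rfl⟩
  obtain ⟨a, ha, h7⟩ := h6
  refine ⟨a, ha, fun u hu => ?_⟩
  have h8 : a • h • lam = b • h • lam := sub_left_inj.1 h7
  have he : a⁻¹ * b ∈ A ⊔ cj k A := Subgroup.mul_mem _ (Subgroup.inv_mem _ (Subgroup.mem_sup_left ha)) hb'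
  have h9 : (a⁻¹ * b) • h • lam = h • lam := by rw [mul_smul, ← h8, inv_smul_smul]
  have h10 : (a⁻¹ * b) • u = u := by
    obtain ⟨a', ha', d, hd, rfl⟩ := x.u_mu hu
    have h11 : (h * f) * a' * (h * f)⁻¹ ∈ (bb (U (h • lam)) : Subgroup H) := by
      have := s.bb_conj (h * f) hl (me.le ha')
      rwa [x.v.f'_lam s] at this
    rw [smul_add, bb_fix (hPb he) hd.1, x.v.two_ii s hT (hPb he) (hP he).2 h9 h11]
  rw [mul_smul, inv_smul_eq_iff] at h10
  exact h10

/-- (4) -/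
theorem four (x : Fx Lam U lam A f h) {φ : M →+ ZMod 2} {k : H} (hk : k • lam = lam)
    (hφ : ∀ u ∈ U lam, (φ u = 0 → k • u = u) ∧ (φ u ≠ 0 → k • u = u + lam)) {a₀ : H} (h0 : a₀ ∈ A)
    (h0' : φ (a₀ • h • lam - h • lam) ≠ 0) {b : H} (hb : b ∈ cj k A) {u : M} (hu : u ∈ U (h • lam)) : b • u = u := by
  have s := x.s
  have hl := x.v.hl
  have me := x.me
  have mek := me.conj s hl hk
  let A0 : Subgroup H := cj k A ⊓ fixingSubgroup H (U (h • lam) : Set M)
  suffices h1 : A0 = cj k A by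
    have h2 : b ∈ A0 := by rw [h1]; exact hb
    exact (mem_fixingSubgroup_iff H).1 h2.2 u hu
  by_contra h1
  by_cases h2 : A0 = ⊥
  · have h3 : ∀ b : cj k A, ∃ a : A, ∀ u ∈ U (h • lam), (b : H) • u = (a : H) • u := fun b => by
      obtain ⟨a, ha, h4⟩ := x.four_a hk hφ b.2
      exact ⟨⟨a, ha⟩, h4⟩
    choose F hF using h3
    have h4 : Function.Injective F := by
      intro b c hbc
      have h5 : (b : H)⁻¹ * c ∈ A0 := by
        refine ⟨(cj k A).mul_mem ((cj k A).inv_mem b.2) c.2, (mem_fixingSubgroup_iff H).2 fun u hu => ?_⟩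
        rw [mul_smul, hF c u hu, ← hbc, ← hF b u hu, inv_smul_smul]
      rw [h2, Subgroup.mem_bot, inv_mul_eq_one] at h5
      exact Subtype.ext h5
    have h5 : Function.Surjective F := by
      refine (Function.Injective.bijective_of_nat_card_le h4 ?_).2
      rw [card_cj]
    obtain ⟨b0, hb0⟩ := h5 ⟨a₀, h0⟩
    have h6 : (b0 : H) • h • lam = a₀ • h • lam := by
      rw [hF b0 _ (s.mem (x.v.mu s)), hb0]
    have h7 := mem_cj.1 b0.2
    have h8 : (b0 : H) • (h • lam) - h • lam =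
        k • ((k⁻¹ * b0 * k) • (k⁻¹ • h • lam) - k⁻¹ • h • lam) := by
      rw [smul_sub_conj, smul_inv_smul]
      congr 2
      group
    have h9 := sub_mem_cm h7 (k⁻¹ • h • lam)
    have h10 := hφ _ (cm_le_of_le_bb me.le h9)
    rw [h6] at h8
    by_cases h11 : φ ((k⁻¹ * b0 * k) • (k⁻¹ • h • lam) - k⁻¹ • h • lam) = 0
    · rw [h10.1 h11] at h8
      rw [h8] at h0'
      exact h0' h11
    · rw [h10.2 h11] at h8
      have h12 : lam ∈ cm M A := by
        have h13 := (cm M A).sub_mem (sub_mem_cm h0 (h • lam)) h9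
        rwa [h8, add_sub_cancel_left] at h13
      exact x.free lam h12 hl
  · have h3 := mek.min A0 inf_le_left h2 h1
    have h4 : U (h • lam) ⊓ cv M (cj k A) = U lam ⊓ U (h • lam) := by
      refine le_antisymm ?_ fun u hu => ⟨hu.2, le_cv_of_le_bb mek.le hu.1⟩
      rintro u ⟨h5, h6⟩
      obtain ⟨c, hc, hc'⟩ : ∃ c ∈ cj k A, c ∉ A0 := by
        by_contra h7
        push Not at h7
        exact h1 (le_antisymm inf_le_left h7)
      obtain ⟨a, ha, h7⟩ := x.four_a hk hφ hc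
      have h8 : a ≠ 1 := by
        rintro rfl
        exact hc' ⟨hc, (mem_fixingSubgroup_iff H).2 fun u hu => by rw [h7 u hu, one_smul]⟩
      have h9 : a • u = u := by rw [← h7 u h5, h6 c hc]
      rw [← x.cvD]
      exact ⟨h5, cv_eq s hl me x.free ha h8 h9⟩
    have h5 := card_sup_inf (U (h • lam)) (cv M (cj k A))
    rw [h4, x.card_U, ← x.card_A.1] at h5
    have h6 : Nat.card (U (h • lam) ⊔ cv M (cj k A) : AddSubgroup M) ≤ Nat.card (cv M A0) := by
      refine card_le (sup_le (fun u hu a ha => (mem_fixingSubgroup_iff H).1 ha.2 u hu) (cv_anti inf_le_left))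
    have h7 := mek.ex
    rw [card_cj] at h7
    have hd : 0 < Nat.card (U lam ⊓ U (h • lam) : AddSubgroup M) := Nat.card_pos
    have hA0 : 0 < Nat.card A0 := Nat.card_pos
    have k1 : Nat.card (cv M A0) * Nat.card (U lam ⊓ U (h • lam) : AddSubgroup M) <
        Nat.card M * Nat.card (U lam ⊓ U (h • lam) : AddSubgroup M) := by
      refine Nat.mul_lt_mul_of_pos_right (lt_of_le_of_lt ?_ h3) hd
      exact Nat.le_mul_of_pos_left _ hA0
    have k2 : Nat.card M * Nat.card (U lam ⊓ U (h • lam) : AddSubgroup M) =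
        Nat.card (U (h • lam) ⊔ cv M (cj k A) : AddSubgroup M) * Nat.card (U lam ⊓ U (h • lam) : AddSubgroup M) := by
      rw [h5, ← h7]
      ring
    have k3 := Nat.mul_le_mul_right (Nat.card (U lam ⊓ U (h • lam) : AddSubgroup M)) h6
    omega

/-- (5) -/
theorem five (x : Fx Lam U lam A f h) {φ : M →+ ZMod 2} {k : H} (hk : k • lam = lam)
    (hφ : ∀ u ∈ U lam, (φ u = 0 → k • u = u) ∧ (φ u ≠ 0 → k • u = u + lam)) {a₀ : H} (h0 : a₀ ∈ A)
    (h0' : φ (a₀ • h • lam - h • lam) ≠ 0)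
    (hU : ∀ u ∈ U lam, ∃ r ∈ cm M A, ∃ d ∈ U lam ⊓ U (h • lam), u = k • r + d) : False := by
  have s := x.s
  have hl := x.v.hl
  have me := x.me
  have mek := me.conj s hl hk
  have c1 : U lam ≤ cv M (cj k A) := le_cv_of_le_bb mek.le
  have c2 : U (h • lam) ≤ cv M (cj k A) := fun u hu b hb => x.four hk hφ h0 h0' hb hu
  -- `C_{B_λ}(C_φ) = A_φ`
  have hX : ∀ e : H, e ∈ (bb (U lam) : Subgroup H) → (∀ c ∈ cv M (cj k A), e • c = c) → e ∈ cj k A := by
    let X : Subgroup H := bb (U lam) ⊓ fixingSubgroup H (cv M (cj k A) : Set M)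
    have h1 : cj k A ≤ X := fun e he => ⟨mek.le he, (mem_fixingSubgroup_iff H).2 fun c hc => hc e he⟩
    have h2 := s.no hl X inf_le_left
    have h3 : cv M (cj k A) ≤ cv M X := fun c hc e he => (mem_fixingSubgroup_iff H).1 he.2 c hc
    have h4 : Nat.card X ≤ Nat.card (cj k A) := by
      have h5 := card_le h3
      have h6 := mek.ex
      have h7 : 0 < Nat.card (cv M (cj k A)) := Nat.card_pos
      refine Nat.le_of_mul_le_mul_right ?_ h7
      rw [h6]
      exact le_trans (Nat.mul_le_mul_left _ h5) h2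
    have h5 : cj k A = X := Subgroup.eq_of_le_of_card_ge h1 h4
    intro e he he'
    rw [h5]
    exact ⟨he, (mem_fixingSubgroup_iff H).2 he'⟩
  have hf' : ∀ c ∈ cv M (cj k A), (h * f) • c ∈ cv M (cj k A) := by
    intro c hc
    have h1 := (cv M (cj k A)).add_mem (x.v.f'_sub s c1 c2 c) hc
    rwa [sub_add_cancel] at h1
  let S : AddSubgroup M := (cm M A).comap (DistribSMul.toAddMonoidHom M (k⁻¹ * (h * f)⁻¹))
  have hS : ∀ v : M, v ∈ S ↔ k⁻¹ • (h * f)⁻¹ • v ∈ cm M A := fun v => by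
    rw [← mul_smul]
    exact Iff.rfl
  -- the commutator
  have key : ∀ y ∈ A, ∀ b ∈ cj k A, ∀ m : M,
      ((h * f) * y * (h * f)⁻¹) • (b • m - m) - (b • m - m) ∈ S := by
    intro y hy b hb m
    have hy' : (h * f) * y * (h * f)⁻¹ ∈ (bb (U (h • lam)) : Subgroup H) := by
      have := s.bb_conj (h * f) hl (me.le hy)
      rwa [x.v.f'_lam s] at this
    generalize (h * f) * y * (h * f)⁻¹ = z at hy'
    have hbm : b • h • lam = h • lam := c2 (s.mem (x.v.mu s)) b hb
    have he1 : b * z * b⁻¹ * z⁻¹ ∈ (bb (U (h • lam)) : Subgroup H) := by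
      refine (bb _).mul_mem ?_ ((bb _).inv_mem hy')
      have := s.bb_conj b (x.v.mu s) hy'
      rwa [hbm] at this
    have he2 : ∀ c ∈ cv M (cj k A), (b * z * b⁻¹ * z⁻¹) • c = c := by
      intro c hc
      have h1 : z⁻¹ • c ∈ cv M (cj k A) := by
        have := (cv M (cj k A)).add_mem (c2 (bb_sub ((bb _).inv_mem hy') c)) hc
        rwa [sub_add_cancel] at this
      rw [mul_smul, mul_smul, mul_smul, h1 _ ((cj k A).inv_mem hb), smul_inv_smul, hc b hb]
    have he3 : (h * f)⁻¹ * (b * z * b⁻¹ * z⁻¹) * (h * f) ∈ cj k A := by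
      refine hX _ ?_ fun c hc => ?_
      · have := s.bb_conj (h * f)⁻¹ (x.v.mu s) he1
        rw [inv_inv, f'_sq s x.v, x.v.f'_mu s] at this
        rw [f'_sq s x.v]
        exact this
      · rw [mul_smul, mul_smul, he2 _ (hf' c hc), inv_smul_smul]
    have he4 : ∀ w : M, (b * z * b⁻¹ * z⁻¹) • w - w ∈ S := by
      intro w
      rw [hS, smul_sub_conj, smul_sub_conj, inv_inv, inv_inv]
      exact sub_mem_cm (mem_cj.1 he3) _
    have h1 := S.neg_mem (he4 (z • b • m))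
    have h2 : b • (z • m - m) = z • m - m := c2 (bb_sub hy' m) b hb
    have h3 : -((b * z * b⁻¹ * z⁻¹) • z • b • m - z • b • m) = z • (b • m - m) - (b • m - m) := by
      rw [mul_smul, mul_smul, mul_smul, inv_smul_smul, inv_smul_smul]
      have h4 : b • z • m = b • m + (z • m - m) := by
        rw [← h2, smul_sub]
        abel
      rw [h4, smul_sub]
      abel
    rwa [h3] at h1
  -- `[M, B] ≤ f' R_φ`
  have h5 : ∀ y ∈ A, ∀ r ∈ cm M A, ((h * f) * y * (h * f)⁻¹) • k • r - k • r ∈ S := by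
    intro y hy r hr
    let Q : AddSubgroup M := S.comap ((DistribSMul.toAddMonoidHom M ((h * f) * y * (h * f)⁻¹) -
      AddMonoidHom.id M).comp (DistribSMul.toAddMonoidHom M k))
    have h6 : cm M A ≤ Q := by
      refine cm_le fun a ha m => ?_
      change ((h * f) * y * (h * f)⁻¹) • k • (a • m - m) - k • (a • m - m) ∈ S
      rw [smul_sub_conj]
      exact key y hy _ (conj_mem_cj ha) _
    exact h6 hr
  have h6 : ∀ y ∈ A, ∀ m : M, ((h * f) * y * (h * f)⁻¹) • m - m ∈ S := by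
    intro y hy m
    obtain ⟨u, hu, c, hc, rfl⟩ := x.m_eq m
    obtain ⟨r, hr, d, hd, rfl⟩ := hU u hu
    have hy' : (h * f) * y * (h * f)⁻¹ ∈ (bb (U (h • lam)) : Subgroup H) := by
      have := s.bb_conj (h * f) hl (me.le hy)
      rwa [x.v.f'_lam s] at this
    have h7 := h5 y hy r hr
    have h8 : ((h * f) * y * (h * f)⁻¹) • (k • r + d + c) - (k • r + d + c) =
        ((h * f) * y * (h * f)⁻¹) • k • r - k • r := by
      rw [smul_add, smul_add, hc y hy, bb_fix hy' hd.2]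
      abel
    rw [h8]
    exact h7
  have h7 : ∀ a ∈ A, ∀ m : M, k⁻¹ • (a • m - m) ∈ cm M A := by
    intro a ha m
    have h8 := h6 a ha ((h * f) • m)
    rw [hS, ← smul_sub_conj, inv_smul_smul] at h8
    exact h8
  have h8 := h7 a₀ h0 (h • lam)
  have h9 := hφ _ (cm_le_of_le_bb me.le h8)
  rw [smul_inv_smul] at h9
  have h10 := sub_mem_cm h0 (h • lam)
  by_cases h11 : φ (k⁻¹ • (a₀ • h • lam - h • lam)) = 0
  · rw [← h9.1 h11] at h11
    exact h0' h11
  · have h12 := h9.2 h11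
    have h13 := (cm M A).sub_mem h10 h8
    rw [sub_eq_of_eq_add' h12] at h13
    exact x.free lam h13 hl

/-- (6) -/
theorem six (x : Fx Lam U lam A f h) : Nat.card A ≤ 2 := by
  by_contra hc
  have s := x.s
  have hl := x.v.hl
  have me := x.me
  obtain ⟨-, h1, -, h2⟩ := x.card_A
  have h3 : lam ∈ cs (U lam) (h • lam) A me.le ⊔ (U lam ⊓ U (h • lam)) := by
    rw [h1]
    exact s.mem hl
  rw [AddSubgroup.mem_sup] at h3
  obtain ⟨c1, hc1, d1, hd1, h3⟩ := h3
  -- an element of `[μ, A]` outside `D + ⟨c₁⟩`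
  obtain ⟨w, hw, hw'⟩ : ∃ w ∈ cs (U lam) (h • lam) A me.le, w ∉ (U lam ⊓ U (h • lam)) ⊔ AddSubgroup.zmultiples c1 := by
    by_contra h4
    push Not at h4
    have h5 : cs (U lam) (h • lam) A me.le ≤ AddSubgroup.zmultiples c1 := by
      intro w hw
      have h6 := h4 w hw
      rw [AddSubgroup.mem_sup] at h6
      obtain ⟨d, hd, e, he, h7⟩ := h6
      have h8 : e ∈ cs (U lam) (h • lam) A me.le := by
        rcases mem_zm s he with rfl | rfl
        · exact AddSubgroup.zero_mem _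
        · exact hc1
      have h9 : d ∈ cs (U lam) (h • lam) A me.le ⊓ (U lam ⊓ U (h • lam)) := by
        refine ⟨?_, hd⟩
        have : d = w - e := by rw [← h7, add_sub_cancel_right]
        rw [this]
        exact AddSubgroup.sub_mem _ hw h8
      rw [x.disj, AddSubgroup.mem_bot] at h9
      rw [← h7, h9, zero_add]
      exact he
    have h6 := card_le h5
    rw [h2, Nat.card_zmultiples] at h6
    have h7 : addOrderOf c1 ≤ 2 := by
      refine Nat.le_of_dvd (by norm_num) ?_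
      rw [addOrderOf_dvd_iff_nsmul_eq_zero, two_nsmul]
      exact s.two c1
    omega
  obtain ⟨φ, h4, h5⟩ := exists_fun s.two hw'
  have hd : ∀ d ∈ U lam ⊓ U (h • lam), φ d = 0 := fun d hd => h4 d (AddSubgroup.mem_sup_left hd)
  have hc1' : φ c1 = 0 := h4 c1 (AddSubgroup.mem_sup_right (AddSubgroup.mem_zmultiples c1))
  have hlam : φ lam = 0 := by rw [← h3, map_add, hc1', hd d1 hd1, add_zero]
  obtain ⟨k, hk, hφ⟩ := s.f2 hl φ hlam
  obtain ⟨a₀, h0, rfl⟩ := hw
  refine x.five hk hφ h0 (by rw [h5]; decide) fun u hu => ?_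
  rw [← h1, AddSubgroup.mem_sup] at hu
  obtain ⟨c, hc, d, hd', rfl⟩ := hu
  by_cases h6 : φ c = 0
  · exact ⟨c, cs_le_cm hc, d, hd', by rw [(hφ c (cs_le hc)).1 h6]⟩
  · refine ⟨c + c1, (cm M A).add_mem (cs_le_cm hc) (cs_le_cm hc1), d + d1, AddSubgroup.add_mem _ hd' hd1, ?_⟩
    have h7 : φ (c + c1) ≠ 0 := by rw [map_add, hc1', add_zero]; exact h6
    rw [(hφ _ ((U lam).add_mem (cs_le hc) (cs_le hc1))).2 h7]
    have h8 : c + c1 + lam + (d + d1) = c + d + (c1 + c1) + (d1 + d1) := by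
      rw [← h3]
      abel
    rw [h8, s.two, s.two, add_zero, add_zero]

end Fx

/-- **THEOREM ONE** (helper430, bb #17614): a minimal exact `A ≤ B_λ` with `[M, A] ∩ Λ = ∅` has order 2. -/
theorem one [Finite H] [Finite M] {Lam : Set M} {U : M → AddSubgroup M} {lam : M} {A : Subgroup H}
    (s : Sys H Lam U) (hl : lam ∈ Lam) (me : ME U lam A) (free : ∀ r ∈ cm M A, r ∉ Lam) : Nat.card A = 2 := by
  obtain ⟨f, fA, hf1⟩ : ∃ f ∈ A, f ≠ 1 := by
    by_contra h1
    push Not at h1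
    exact me.ne (eq_bot_iff.2 fun a ha => Subgroup.mem_bot.2 (h1 a ha))
  obtain ⟨h, h1, h2, h3⟩ := s.bs hl f (me.le fA) hf1
  have x : Fx Lam U lam A f h := ⟨s, me, ⟨hl, me.le fA, hf1, h1, h2, h3⟩, fA, free⟩
  refine le_antisymm x.six ?_
  have h4 : Nat.card A ≠ 1 := fun h => me.ne (Subgroup.card_eq_one.1 h)
  have h5 : 0 < Nat.card A := Nat.card_pos
  omega

/-- THEOREM ONE as a transvection: `A = {1, f}`, `[M, A] = {0, c}`, `c ∈ U_λ ∖ Λ`. -/
theorem one' [Finite H] [Finite M] {Lam : Set M} {U : M → AddSubgroup M} {lam : M} {A : Subgroup H}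
    (s : Sys H Lam U) (hl : lam ∈ Lam) (me : ME U lam A) (free : ∀ r ∈ cm M A, r ∉ Lam) :
    ∃ f ∈ A, f ≠ 1 ∧ (∀ a ∈ A, a = 1 ∨ a = f) ∧ ∃ c ∈ cm M A, c ≠ 0 ∧ c ∈ U lam ∧ c ∉ Lam ∧
      ∀ m : M, f • m = m ∨ f • m = m + c := by
  have h1 := one s hl me free
  obtain ⟨f, fA, hf1⟩ : ∃ f ∈ A, f ≠ 1 := by
    by_contra h1
    push Not at h1
    exact me.ne (eq_bot_iff.2 fun a ha => Subgroup.mem_bot.2 (h1 a ha))
  have h2 : ∀ a ∈ A, a = 1 ∨ a = f := by
    intro a ha
    by_cases h3 : a = 1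
    · exact Or.inl h3
    · right
      have h4 := ((Nat.card_eq_two_iff' (1 : A)).1 h1).unique (y₁ := ⟨a, ha⟩) (y₂ := ⟨f, fA⟩)
        (fun h => h3 (congrArg Subtype.val h)) (fun h => hf1 (congrArg Subtype.val h))
      exact congrArg Subtype.val h4
  have h3 : (cv M A).index = 2 := by
    have h4 := me.ex
    rw [h1] at h4
    have h5 : 0 < Nat.card (cv M A) := Nat.card_pos
    refine Nat.eq_of_mul_eq_mul_left h5 ?_
    rw [AddSubgroup.card_mul_index, mul_comm, h4]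
  obtain ⟨m0, hm0⟩ : ∃ m0 : M, f • m0 ≠ m0 := by
    by_contra h4
    push Not at h4
    exact hf1 (s.faith f h4)
  have h4 : ∀ m : M, m ∈ cv M A ↔ f • m = m := fun m =>
    ⟨fun h => h f fA, fun h a ha => by
      rcases h2 a ha with rfl | rfl
      · exact one_smul _ m
      · exact h⟩
  have h5 : f • m0 - m0 ∈ cm M A := sub_mem_cm fA m0
  refine ⟨f, fA, hf1, h2, f • m0 - m0, h5, sub_ne_zero.2 hm0, cm_le_of_le_bb me.le h5, free _ h5, fun m => ?_⟩
  by_cases h6 : f • m = m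
  · exact Or.inl h6
  · right
    have h7 : m + m0 ∈ cv M A := by
      rw [AddSubgroup.add_mem_iff_of_index_two h3, h4, h4]
      exact ⟨fun h => absurd h h6, fun h => absurd h hm0⟩
    rw [h4, smul_add] at h7
    rw [s.sub_eq, ← add_assoc, ← sub_eq_iff_eq_add, s.sub_eq, ← sub_eq_iff_eq_add, s.sub_eq, add_right_comm, h7,
      add_assoc, s.two, add_zero]

end Cfsg.Agent.Omega.NOThree.LL.One

end
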