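import Cfsg.Agent.Mrg.Omega.NOThree.TF.Blk
import Cfsg.Agent.Mrg.Omega.NO3S.TwoFar.Inst

section


/-!
# `U_λ = I_l/p` in `M_p` (NO-3S TwoFar, text #16267, section 0)

`p`, `p₁` on the line `cj g V`, `λ = π p₁`, `U` = the image of `I_l = ii (cj g V)` (any `U` with
`hU : ∀ m, m ∈ U ↔ ∃ a ∈ ii (cj g V), π a = m`).

* `Md.mem_U`, `Md.lam_mem_U`, `Md.index_U` : `|M : U| = |W_z : I_V|`;
* `Md.stab_U` : the stabiliser of `λ` normalises `U`;
* `Md.mv_U` : (F2') for `u ∈ U`, `u ≠ 0`, `u ≠ λ` some `k ∈ Stab(λ)` has `k u = u + λ`;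
* `Md.fix_U` : `[W_q, W_{p₁}] = 1` : `W_q` fixes `U`.
-/

set_option autoImplicit false
set_option linter.unusedSectionVars false

namespace Cfsg.Agent.Omega.NOThree.TF

open Subgroup Cfsg Cfsg.Agent.ZN Cfsg.Agent.MinSimple.Geo Cfsg.Agent.Omega.CaseL Cfsg.Agent.Omega.NO3S.TwoOne
open Cfsg.Agent.Omega.NO3S.Pt
open Cfsg.Agent.ZN.Block (conj_mem_of_normalizer conj_mem_of_normalizer' le_normalizer_of_forall
  mem_normalizer_of)

universe u v

variable {G : Type u} [Group G] {M : Type v} [AddCommGroup M]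

namespace Md

variable {T V : Subgroup G} {z p p₁ g : G} [DistribMulAction (centralizer ({p} : Set G)) M] {π : G → M}
  {U : AddSubgroup M}

/-- the elements of the line -/
theorem four_cj (h : Fr T V z) (hp : p ∈ cj g V) (hp1 : p ≠ 1) (hq : p₁ ∈ cj g V) (hq1 : p₁ ≠ 1) (hne : p₁ ≠ p)
    {a : G} (ha : a ∈ cj g V) : a = 1 ∨ a = p ∨ a = p₁ ∨ a = p * p₁ := by
  obtain ⟨k, -, -, hf⟩ := h.flag hp hp1
  exact hf.ln.four hp hq hp1 hq1 (Ne.symm hne) ha

/-- `D ≤ M` is the image of `E ∩ W_p` : `|M : D| = |W_p : W_p ∩ E|` -/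
theorem index_eq_relIndex (md : Md V p π) {D : AddSubgroup M} {E : Subgroup G}
    (hDE : ∀ a ∈ ws V p, π a ∈ D ↔ a ∈ E) : D.index = E.relIndex (ws V p) := by
  let φ : ws V p →* Multiplicative (M ⧸ D) :=
    { toFun := fun a => Multiplicative.ofAdd (QuotientAddGroup.mk (π a))
      map_one' := by
        change Multiplicative.ofAdd ((QuotientAddGroup.mk (π (1 : G)) : M ⧸ D)) = 1
        rw [md.map_one]
        rfl
      map_mul' := by
        rintro ⟨a, ha⟩ ⟨b, hb⟩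
        change Multiplicative.ofAdd ((QuotientAddGroup.mk (π (a * b)) : M ⧸ D)) = _
        rw [md.map_mul a ha b hb]
        rfl }
  have hφ : Function.Surjective φ := by
    intro x
    obtain ⟨m, hm⟩ := QuotientAddGroup.mk_surjective (Multiplicative.toAdd x)
    obtain ⟨a, ha, rfl⟩ := md.surj m
    exact ⟨⟨a, ha⟩, by
      change Multiplicative.ofAdd ((QuotientAddGroup.mk (π a) : M ⧸ D)) = x
      rw [hm]
      rfl⟩
  have hk : φ.ker = E.subgroupOf (ws V p) := by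
    ext ⟨a, ha⟩
    rw [MonoidHom.mem_ker, mem_subgroupOf]
    change Multiplicative.ofAdd ((QuotientAddGroup.mk (π a) : M ⧸ D)) = 1 ↔ a ∈ E
    rw [← hDE a ha]
    exact QuotientAddGroup.eq_zero_iff (π a)
  have h1 : φ.ker.index = Nat.card (M ⧸ D) := by
    rw [index_ker, MonoidHom.range_eq_top.2 hφ]
    exact Nat.card_congr (Equiv.Set.univ _) |>.trans rfl
  rw [hk] at h1
  exact h1.symm

/-- the subgroup `U` -/
theorem exists_U (h : Fr T V z) (md : Md V p π) (hp : p ∈ cj g V) (hp1 : p ≠ 1) :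
    ∃ U : AddSubgroup M, ∀ m, m ∈ U ↔ ∃ a ∈ ii (cj g V), π a = m := by
  have hle := h.ii_cj_le hp hp1
  have hpc : Col V p p := Col.of_mem hp hp hp1 hp1
  refine ⟨{ carrier := {m | ∃ a ∈ ii (cj g V), π a = m}
            add_mem' := ?_
            zero_mem' := ⟨1, one_mem _, md.map_one⟩
            neg_mem' := ?_ }, fun m => Iff.rfl⟩
  · rintro _ _ ⟨a, ha, rfl⟩ ⟨b, hb, rfl⟩
    exact ⟨a * b, mul_mem ha hb, md.map_mul a (hle ha) b (hle hb)⟩
  · rintro _ ⟨a, ha, rfl⟩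
    exact ⟨a, ha, (md.neg_eq h hpc _).symm⟩

section

variable (h : Fr T V z) (md : Md V p π) (hp : p ∈ cj g V) (hp1 : p ≠ 1)
  (hU : ∀ m, m ∈ U ↔ ∃ a ∈ ii (cj g V), π a = m)
include h md hp hp1 hU

theorem π_mem_U {a : G} (ha : a ∈ ws V p) : π a ∈ U ↔ a ∈ ii (cj g V) := by
  have hpc : Col V p p := Col.of_mem hp hp hp1 hp1
  rw [hU]
  constructor
  · rintro ⟨b, hb, e⟩
    rcases (md.eq_iff h hpc ha (h.ii_cj_le hp hp1 hb)).1 e.symm with e | e
    · rwa [e]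
    · rw [e]
      refine mul_mem ?_ hb
      intro r hr hr1
      rw [ws_cj]
      exact h.line_le_ws hr hp
  · exact fun ha' => ⟨a, ha', rfl⟩

/-- `|M : U| = |W_z : I_V|` -/
theorem index_U : U.index = (ii V).relIndex (ws V z) := by
  rw [md.index_eq_relIndex (D := U) (E := ii (cj g V)) fun a ha => π_mem_U h md hp hp1 hU ha]
  exact NO3S.TwoFar.index_eq h (l := NO3S.TwoFar.ln V g) (x := NO3S.TwoFar.pt hp hp1) hp

end

section

variable (h : Fr T V z) (md : Md V p π) (hp : p ∈ cj g V) (hp1 : p ≠ 1) (hq : p₁ ∈ cj g V) (hq1 : p₁ ≠ 1)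
  (hne : p₁ ≠ p) (hU : ∀ m, m ∈ U ↔ ∃ a ∈ ii (cj g V), π a = m)
include h md hp hp1 hq hq1 hne

/-- the stabiliser of `λ` normalises the line -/
theorem norm_line {c : centralizer ({p} : Set G)} (hc : c • π p₁ = π p₁) :
    (c : G) ∈ normalizer ((cj g V : Subgroup G) : Set G) := by
  have hpc : Col V p p := Col.of_mem hp hp hp1 hp1
  have hqw : p₁ ∈ ws V p := h.line_le_ws hp hq
  have key : ∀ c : centralizer ({p} : Set G), c • π p₁ = π p₁ → ∀ a ∈ cj g V, (c : G) * a * (c : G)⁻¹ ∈ cj g V := by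
    intro c hc a ha
    rw [← md.smul c p₁ hqw, md.eq_iff h hpc (conj_mem_ws_of_mem c.2 hqw) hqw] at hc
    have e1 : (c : G) * p₁ * (c : G)⁻¹ ∈ cj g V := by
      rcases hc with e | e
      · rw [e]; exact hq
      · rw [e]; exact mul_mem hp hq
    have e2 : (c : G) * p * (c : G)⁻¹ = p :=
      NO3S.Dual.conj_eq_of_comm (mem_centralizer_singleton_iff.1 c.2)
    rcases four_cj h hp hp1 hq hq1 hne ha with e | e | e | e
    · rw [e]; simp
    · rw [e, e2]; exact hp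
    · rw [e]; exact e1
    · rw [e]
      have e3 : (c : G) * (p * p₁) * (c : G)⁻¹ = ((c : G) * p * (c : G)⁻¹) * ((c : G) * p₁ * (c : G)⁻¹) := by group
      rw [e3, e2]
      exact mul_mem hp e1
  refine mem_normalizer_of (fun a ha => key c hc a ha) fun a ha => ?_
  have := key c⁻¹ (by rw [inv_smul_eq_iff, hc]) a ha
  simpa using this

include hU

/-- the stabiliser of `λ` normalises `U` -/
theorem stab_U {c : centralizer ({p} : Set G)} (hc : c • π p₁ = π p₁) {u : M} (hu : u ∈ U) : c • u ∈ U := by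
  obtain ⟨a, ha, rfl⟩ := (hU u).1 hu
  rw [← md.smul c a (h.ii_cj_le hp hp1 ha), hU]
  exact ⟨_, conj_mem_of_normalizer (normalizer_le_normalizer_ii _) (norm_line h md hp hp1 hq hq1 hne hc) ha, rfl⟩

omit hq1 hne in
theorem lam_mem_U : π p₁ ∈ U := by
  rw [hU]
  refine ⟨p₁, ?_, rfl⟩
  intro r hr hr1
  rw [ws_cj]
  exact h.line_le_ws hr hq

/-- **(F2')** -/
theorem mv_U [Finite G] {u : M} (hu : u ∈ U) (hu0 : u ≠ 0) (hul : u ≠ π p₁) :
    ∃ k : centralizer ({p} : Set G), k • π p₁ = π p₁ ∧ k • u = u + π p₁ := by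
  have hpc : Col V p p := Col.of_mem hp hp hp1 hp1
  have hle := h.ii_cj_le hp hp1
  obtain ⟨a, ha, rfl⟩ := (hU u).1 hu
  have hqw : p₁ ∈ ws V p := h.line_le_ws hp hq
  have hpw : p ∈ ws V p := h.line_le_ws hp hp
  have haV : a ∉ cj g V := by
    intro haV
    rcases four_cj h hp hp1 hq hq1 hne haV with e | e | e | e
    · exact hu0 (by rw [e, md.map_one])
    · exact hu0 (by rw [e, md.map_p h hpc])
    · exact hul (by rw [e])
    · exact hul (by rw [e, md.map_mul p hpw p₁ hqw, md.map_p h hpc, zero_add])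
  obtain ⟨k, -, hk, hka⟩ := h.fu_cj ha haV hq hq1
  have hkp : k ∈ centralizer ({p} : Set G) := by
    rw [mem_centralizer_singleton_iff]
    exact (mem_centralizer_iff.1 hk p hp).symm
  refine ⟨⟨k, hkp⟩, ?_, ?_⟩
  · rw [← md.smul ⟨k, hkp⟩ p₁ hqw]
    congr 1
    exact NO3S.Dual.conj_eq_of_comm (mem_centralizer_iff.1 hk p₁ hq).symm
  · rw [← md.smul ⟨k, hkp⟩ a (hle ha)]
    change π (k * a * k⁻¹) = _
    rw [hka, md.map_mul p₁ hqw a (hle ha), add_comm]

omit hp1 hne in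
/-- `W_q` fixes `U`, if `[W_{p₁}, W_q] = 1`. -/
theorem fix_U {q : G} (hcom : NO3S.Pt.Com V p₁ q) {f : centralizer ({p} : Set G)} (hf : (f : G) ∈ ws V q)
    (hp1 : p ≠ 1) {u : M} (hu : u ∈ U) : f • u = u := by
  obtain ⟨a, ha, rfl⟩ := (hU u).1 hu
  rw [← md.smul f a (h.ii_cj_le hp hp1 ha)]
  congr 1
  exact NO3S.Dual.conj_eq_of_comm (hcom a (h.ii_cj_le hq hq1 ha) f hf).symm

end

end Md

end Cfsg.Agent.Omega.NOThree.TF

end

section


/-!
# TwoFar, THEOREM LL (#18157): `O₂(C_G(p)/K_p) = 1` for `M_p`, the data `BD` (section 4)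

* `Md.pt_conj` : the line vectors of `M_p` are conjugate; `Md.span_pt` : they span; `Md.redM` : `O₂(C_G(p)/K_p) = 1`;
* `Md.bd` : the data of `BD` (section 4) for a transvection with centre `c ∈ U_λ` which is not a line vector.
-/

set_option autoImplicit false
set_option linter.unusedSectionVars false

namespace Cfsg.Agent.Omega.NOThree.LL

open Subgroup Cfsg Cfsg.Agent.ZN Cfsg.Agent.MinSimple.Geo Cfsg.Agent.Omega.CaseL Cfsg.Agent.Omega.NO3S.TwoOne
open Cfsg.Agent.Omega.NO3S.Pt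
open Cfsg.Agent.Omega.NOThree.TF (Md conj_mem_ws_of_mem exists_T)

universe u v

variable {G : Type u} [Group G] {T V : Subgroup G} {z p x : G} {M : Type v} [AddCommGroup M]
  [DistribMulAction (centralizer ({p} : Set G)) M] {π : G → M}

/-- the line vectors of `M_p` are conjugate -/
theorem pt_conj (h : Fr T V z) (md : Md V p π) (hx : Col V p x) (hne : x ≠ p) {e : G} (he : Col V p e)
    (hne' : e ≠ p) : ∃ g : centralizer ({p} : Set G), g • π x = π e := by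
  obtain ⟨g₁, p1, x1, hp1, hx1⟩ := id hx
  obtain ⟨g₂, p2, e2, -, he1⟩ := id he
  obtain ⟨k₁, a1, b1, -⟩ := h.flag p1 hp1
  obtain ⟨k₂, a2, b2, hf⟩ := h.flag p2 hp1
  have hc : (k₂ * k₁⁻¹) * p * (k₂ * k₁⁻¹)⁻¹ = p := by
    nth_rewrite 1 [← b1]
    rw [← b2]
    group
  have hcp : k₂ * k₁⁻¹ ∈ centralizer ({p} : Set G) := by
    rw [mem_centralizer_singleton_iff]
    exact mul_inv_eq_iff_eq_mul.1 hc
  refine ⟨⟨k₂ * k₁⁻¹, hcp⟩, ?_⟩
  have hm : (k₂ * k₁⁻¹) * x * (k₂ * k₁⁻¹)⁻¹ ∈ cj g₂ V := by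
    have h1 : (k₂ * k₁⁻¹) * x * (k₂ * k₁⁻¹)⁻¹ ∈ cj (k₂ * k₁⁻¹) (cj k₁ V) := by
      rw [a1]
      exact conj_mem_cj x1
    rwa [cj_cj, inv_mul_cancel_right, a2] at h1
  rw [← md.smul ⟨k₂ * k₁⁻¹, hcp⟩ x (h.mem_ws_of_col hx)]
  have hne2 : (k₂ * k₁⁻¹) * x * (k₂ * k₁⁻¹)⁻¹ ≠ p := by
    intro e'
    apply hne
    have h2 := e'.trans hc.symm
    exact mul_left_cancel (mul_right_cancel h2)
  rcases hf.ln.four p2 e2 hp1 he1 (Ne.symm hne') hm with e' | e' | e' | e'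
  · exact absurd (conj_eq_one_iff.1 e') hx1
  · exact absurd e' hne2
  · change π ((k₂ * k₁⁻¹) * x * (k₂ * k₁⁻¹)⁻¹) = _
    rw [e']
  · change π ((k₂ * k₁⁻¹) * x * (k₂ * k₁⁻¹)⁻¹) = _
    rw [e', md.map_mul p (h.mem_ws_self hx.left) e (h.mem_ws_of_col he), md.map_p h hx.left, zero_add]

/-- `M = ⟨λ^H⟩` -/
theorem span_pt (h : Fr T V z) (md : Md V p π) (hx : Col V p x) (hne : x ≠ p) (m : M) :
    m ∈ AddSubgroup.closure {v | ∃ g : centralizer ({p} : Set G), v = g • π x} := by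
  set D := AddSubgroup.closure {v | ∃ g : centralizer ({p} : Set G), v = g • π x} with hD
  obtain ⟨a, ha, rfl⟩ := md.surj m
  have h1 : ws V p ≤
      { carrier := {a | a ∈ ws V p ∧ π a ∈ D}
        one_mem' := ⟨one_mem _, by rw [md.map_one]; exact zero_mem _⟩
        mul_mem' := fun {a b} ha hb => ⟨mul_mem ha.1 hb.1, by
          rw [md.map_mul a ha.1 b hb.1]; exact add_mem ha.2 hb.2⟩
        inv_mem' := fun {a} ha => ⟨inv_mem ha.1, by
          rw [inv_eq_of_mul_eq_one_left (h.ws_sq hx.left a ha.1)]; exact ha.2⟩ } := by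
    refine ws_le ?_
    rintro _ ⟨⟨g, rfl⟩, hp⟩ a ha
    have hle := h.line_le_ws hp
    refine ⟨hle ha, ?_⟩
    by_cases ha1 : a = 1
    · rw [ha1, md.map_one]; exact zero_mem _
    by_cases hap : a = p
    · rw [hap, md.map_p h hx.left]; exact zero_mem _
    obtain ⟨c, hc⟩ := pt_conj h md hx hne (Col.of_mem hp ha hx.ne_one ha1) hap
    rw [← hc]
    exact AddSubgroup.subset_closure ⟨c, rfl⟩
  exact (h1 ha).2

/-- `O₂(C_G(p)/K_p) = 1` -/
theorem redM_pt [Finite G] (h : Fr T V z) (md : Md V p π) (hx : Col V p x) (hne : x ≠ p) :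
    RedM (centralizer ({p} : Set G)) M := by
  obtain ⟨T', h1, h2, h3, h4, -, -⟩ := exists_T h hx hne
  refine redM_of (T := T'.subgroupOf (centralizer ({p} : Set G))) h3 (lam := π x) ?_ (span_pt h md hx hne)
  intro t ht
  rw [← md.smul t x (h.mem_ws_of_col hx)]
  rcases h4 t (mem_subgroupOf.1 ht) with e | e
  · rw [e]
  · rw [e, md.map_mul p (h.mem_ws_self hx.left) x (h.mem_ws_of_col hx), md.map_p h hx.left, zero_add]

/-- `M_p` is finite -/
theorem finite_Md [Finite G] (md : Md V p π) : Finite M := by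
  refine Finite.of_surjective (fun a : ws V p => π a) fun v => ?_
  obtain ⟨a, ha, e⟩ := md.surj v
  exact ⟨⟨a, ha⟩, e⟩

/-- **the data of section 4** -/
theorem bd_of_tr [Finite G] (h : Fr T V z) (md : Md V p π) {g p₁ : G} (hp : p ∈ cj g V) (hp1 : p ≠ 1)
    (hq : p₁ ∈ cj g V) (hq1 : p₁ ≠ 1) (hne : p₁ ≠ p) {U : AddSubgroup M}
    (hU : ∀ m, m ∈ U ↔ ∃ a ∈ ii (cj g V), π a = m) {c : M} (hc : c ∈ U)
    (hcl : ∀ g : centralizer ({p} : Set G), g • π p₁ ≠ c)
    (ht : ∃ t : centralizer ({p} : Set G), Tr c t ∧ ∀ u ∈ U, t • u = u) :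
    BD (centralizer ({p} : Set G)) (π p₁) U c where
  two := md.two h (Col.of_mem hp hp hp1 hp1)
  red := redM_pt h md (Col.of_mem hp hq hp1 hq1) hne
  span := span_pt h md (Col.of_mem hp hq hp1 hq1) hne
  lamU := md.lam_mem_U h hp hp1 hq hU
  inv := fun c hc u hu => md.stab_U h hp hp1 hq hq1 hne hU hc hu
  F2 := fun u hu h0 h1 => md.mv_U h hp hp1 hq hq1 hne hU hu h0 h1
  cU := hc
  cl := hcl
  tr := ht

end Cfsg.Agent.Omega.NOThree.LL

end
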